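import Groth.Agent.H14SpQuot.TorsorProp
import Groth.Agent.H14AlgSt.DiagGen

/-!
# The diagonal of a classifying stack
-/

set_option autoImplicit false
set_option backward.isDefEq.respectTransparency false
set_option backward.isDefEq.respectTransparency.types false

universe u

open CategoryTheory CategoryTheory.Limits MonoidalCategory CartesianMonoidalCategory MonObj GrpObj
open AlgebraicGeometry AlgSt
open AlgSp (yon)

noncomputable section

namespace Groth.Agent.H14SpQuot

open H14Fib H14AlgSt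

variable {S : Scheme.{u}}

local notation "K₀" => Scheme.fppfPrecoverage

lemma subsingleton_sec (T : (Over S)ᵒᵖ) : Subsingleton ((((yon S).obj (Over.mk (𝟙 S)))).obj.obj T) :=
  ⟨fun a b => ULift.ext _ _ (Over.mkIdTerminal.hom_ext _ _)⟩

/-- The base as the category of the final sheaf. -/
def selfToFinal : FibCat.selfOver (Over S) ⥤ᵇ ofSp ((yon S).obj (Over.mk (𝟙 S))) where
  toFunctor :=
    { obj := fun T => (⟨T, ⟨Over.homMk T.hom (Category.comp_id _)⟩⟩ : Stk.EltObj (((yon S).obj (Over.mk (𝟙 S)))).obj)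
      map := fun {T T'} f => ⟨f, (subsingleton_sec _).allEq _ _⟩ }
  w := rfl

lemma selfToFinal_isEquivOver : FibCat.IsEquivOver (selfToFinal (S := S)) :=
  (isEquivOver_iff _).2 ⟨⟨⟨fun {T T'} m => ⟨m.hom, Stk.EltObj.hom_ext rfl⟩⟩,
    ⟨fun {T T'} f g h => congrArg Stk.EltObj.Hom.hom h⟩⟩,
    fun o => ⟨o.base, H14Stk.eltIso (x := selfToFinal.obj o.base) (y := o) rfl
      ((subsingleton_sec _).allEq _ _), IsHomLift.of_fac' _ _ _ rfl rfl (by simp; rfl)⟩⟩

variable {G : Over ((yon S).obj (Over.mk (𝟙 S)))} [GrpObj G]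

/-- The trivial torsor as a point of the classifying stack. -/
def bgPoint : FibCat.selfOver (Over S) ⥤ᵇ SpBG K₀ G :=
  BasedFunctor.comp selfToFinal (spQuotMap K₀ G (trivGAction G))

variable {P : MorphismProperty (AlgSp.Sp S)}

lemma repWith_bgPoint (h : RepByAlgSpWith P (spQuotMap K₀ G (trivGAction G))) :
    RepByAlgSpWith P (bgPoint (G := G)) := fun U y => by
  obtain ⟨⟨_, _⟩, hs⟩ := (isEquivOver_iff _).1 (selfToFinal_isEquivOver (S := S))
  have := H14FibU.basedId_full (SpBG K₀ G)
  have := H14FibU.basedId_faithful (SpBG K₀ G)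
  exact RepData.of_equiv' P
    (E := H14FibU.fpMap (F := y) (G := spQuotMap K₀ G (trivGAction G)) (BasedFunctor.id _)
      selfToFinal (BasedFunctor.id (SpBG K₀ G)) (Iso.refl _) (Iso.refl _))
    (H14FibU.fpMap_isEquivOver _ _ _ _ _ (H14FibU.essSurjOver_id _) hs) (Iso.refl _) (h U y)

lemma exists_local_point (U : Over S) (y : FibCat.overCat U ⥤ᵇ SpBG K₀ G) :
    ∃ (κ : Type u) (D : κ → Over S) (c : ∀ i, D i ⟶ U),
      (∀ i, Flat (c i).left) ∧ (∀ i, LocallyOfFinitePresentation (c i).left) ∧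
      (∀ z : U.left, ∃ i, z ∈ Set.range (c i).left) ∧
      ∀ i, Nonempty (BasedFunctor.comp (FibCat.toSelf (FibCat.overCat (D i))) (bgPoint (G := G)) ≅
        BasedFunctor.comp (AlgSt.overMap (c i)) y) := by
  obtain ⟨C, c, hc, hσ⟩ := exists_sections (top y)
  let d : ∀ t, C t ⟶ U := fun t => c t ≫ eqToHom (top_base y)
  have he : IsIso (eqToHom (top_base y) : (top y).base ⟶ U).left :=
    inferInstanceAs (IsIso ((Over.forget S).map (eqToHom (top_base y))))
  refine ⟨_, C, d, fun t => ?_, fun t => ?_, fun z => ?_, fun t => ?_⟩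
  · have := (locP_yon_iff H12AlgSp.etLocal_flat (c t)).1 (hc.1 t).1
    exact inferInstanceAs (Flat ((c t).left ≫ (eqToHom (top_base y)).left))
  · have := (locP_yon_iff H12AlgSp.etLocal_lfp (c t)).1 (hc.1 t).2
    exact inferInstanceAs (LocallyOfFinitePresentation ((c t).left ≫ (eqToHom (top_base y)).left))
  · let e : (top y).base.left ≅ U.left := asIso (eqToHom (top_base y)).left
    obtain ⟨i, x, hx⟩ := hc.2 (AlgSp.Points.ofScheme (top y).base (e.inv z))
    obtain ⟨w, rfl⟩ := (AlgSp.Points.schemeEquiv (C i)).surjective x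
    refine ⟨i, w, ?_⟩
    have h := (AlgSp.Points.schemeEquiv (top y).base).injective
      ((range_map_yon_map (c i) w).symm.trans hx)
    change (eqToHom (top_base y)).left ((c i).left w) = z
    rw [h, ← Scheme.Hom.comp_apply]
    exact congrArg (fun f : U.left ⟶ U.left => f z) e.inv_hom_id
  obtain ⟨σ, hσ⟩ := hσ t
  let z : FibCat.overCat (C t) ⥤ᵇ ofSp (top y).P.left :=
    BasedFunctor.comp (ofOverCat (C t)) (ofSpMap σ.left)
  let Z := BasedFunctor.comp z (ptFun y)
  have hd : σ.left ≫ toBase y = (yon S).map (d t) :=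
    (Category.assoc _ _ _).symm.trans
      ((congrArg (· ≫ (yon S).map (eqToHom (top_base y))) hσ).trans ((yon S).map_comp _ _).symm)
  have i₁ : BasedFunctor.comp Z (FibCat.fpFst y _) ≅ AlgSt.overMap (d t) := by
    let m : BasedFunctor.comp (BasedFunctor.comp (ofOverCat (C t)) (ofSpMap (σ.left ≫ toBase y)))
        (toOverCat U) ≅ AlgSt.overMap (d t) := by
      rw [hd]
      exact H14Stk.mkIso (fun s => Iso.refl _)
        (fun {_ _} φ => (Category.comp_id _).trans ((Category.id_comp _).trans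
          (Over.OverMorphism.ext rfl)).symm)
        (fun s => IsHomLift.id rfl)
    exact m
  have i₂ : BasedFunctor.comp (FibCat.toSelf (FibCat.overCat (C t))) (selfToFinal (S := S)) ≅
      BasedFunctor.comp Z (FibCat.fpSnd y _) :=
    H14Stk.isoOfSec fun _ => (subsingleton_sec _).allEq _ _
  exact ⟨(H14Stk.post (FibCat.overCat (C t)) (spQuotMap K₀ G (trivGAction G))).mapIso i₂ ≪≫
    (Stk.restr Z _).mapIso (FibCat.fpIso y _).symm ≪≫
    (H14Stk.post (FibCat.overCat (C t)) y).mapIso i₁⟩

/-- A property of the group passes to the diagonal of the classifying stack and to its point. -/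
theorem repWith_diag_spBG (hG : AlgSp.IsAlgSpace G.left) [P.IsStableUnderBaseChange]
    (hloc : AlgSp.IsLocalOnBase AlgSp.IsFppfCover P) (hP : P G.hom) :
    RepByAlgSpWith P (FibCat.diag (FibCat.toSelf (SpBG K₀ G))) ∧
      RepByAlgSpWith P (spQuotMap K₀ G (trivGAction G)) := by
  have hB : AlgSp.IsAlgSpace ((yon S).obj (Over.mk (𝟙 S))) := AlgSp.IsAlgSpace.yon_obj _
  have h := repWith_spQuotMap (aX := trivGAction G) hB hG
    (torsor_prop hB hG baseStable_of_stable hloc hP)
  exact ⟨repWith_diag_of_point hloc (sourceIsoInv_of_respectsIso P) isStack_spQuot bgPoint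
    (repWith_bgPoint h) exists_local_point, h⟩

end Groth.Agent.H14SpQuot
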