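import Groth.Agent.H14SpQuot.AlgTorsor
import Groth.Agent.H14AlgSt.Rep

/-!
# The fibre of `X ⟶ [X/G]` over an object is the torsor
-/

set_option autoImplicit false
set_option backward.isDefEq.respectTransparency false
set_option backward.isDefEq.respectTransparency.types false

universe u

open CategoryTheory CategoryTheory.Limits MonoidalCategory CartesianMonoidalCategory MonObj GrpObj
open AlgebraicGeometry AlgSt
open AlgSp (yon)

noncomputable section

namespace Groth.Agent.H14SpQuot

open H14Fib H14AlgSt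

variable {S : Scheme.{u}} {K : Precoverage Scheme.{u}} {B : AlgSp.Sp S} {G : Over B} [GrpObj G]
  {X : Over B} {aX : AlgSp.GAction G X}

section Point

variable {F F' : AlgSp.Sp S}

/-- The point of a sheaf defined by an object of its category. -/
abbrev ptYon (o : (ofSp F).obj) : (yon S).obj o.base ⟶ F :=
  ((AlgSp.J S).uliftYonedaEquiv).symm o.sec

lemma ptYon_map (m : F ⟶ F') (o : (ofSp F).obj) :
    ptYon ((ofSpMap m).obj o) = ptYon o ≫ m :=
  (GrothendieckTopology.uliftYonedaEquiv_symm_naturality_right (AlgSp.J S) o.base m o.sec).symm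

lemma ptYon_comp {o o' : (ofSp F).obj} (f : o ⟶ o') : (yon S).map f.hom ≫ ptYon o' = ptYon o := by
  change (AlgSp.J S).uliftYoneda.map f.hom ≫ ((AlgSp.J S).uliftYonedaEquiv).symm o'.sec = _
  rw [GrothendieckTopology.uliftYonedaEquiv_symm_naturality_left, f.map_sec]

/-- The object of the category of a sheaf defined by a point. -/
abbrev ptObjOf {T : Over S} (x : (yon S).obj T ⟶ F) : (ofSp F).obj :=
  (⟨T, (AlgSp.J S).uliftYonedaEquiv x⟩ : Stk.EltObj F.obj)

lemma ptYon_ptObjOf {T : Over S} (x : (yon S).obj T ⟶ F) : ptYon (ptObjOf x) = x :=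
  (AlgSp.J S).uliftYonedaEquiv.symm_apply_apply x

end Point

section HomOfSec

variable [K.HasIsos]

/-- The trivial torsor attached to a section of `X`. -/
abbrev triv (a : (ofSp X.left).obj) : SpQuotObj K G aX := (spQuotMap K G aX).obj a

lemma triv_eqv {T P : Over B} (act : AlgSp.GAction G P) (σ : T ⟶ P) :
    (spLeftMul G T).act ≫ (G ◁ σ) ≫ act.act = (G ◁ ((G ◁ σ) ≫ act.act)) ≫ act.act := by
  have hμ : fst (G ⊗ G) P ≫ μ[G] = (fst _ _ ≫ fst G G) * (fst _ _ ≫ snd G G) := by
    rw [Hom.mul_def, ← comp_lift, lift_fst_snd, Category.comp_id]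
  have h : (spLeftMul G T).act ≫ (G ◁ σ) = (G ◁ (G ◁ σ)) ≫ (α_ G G P).inv ≫ (μ[G] ▷ P) := by
    apply CartesianMonoidalCategory.hom_ext <;>
      simp [spLeftMul, comp_mul, hμ]
  have hm : (G ◁ act.act) ≫ act.act = (α_ G G P).inv ≫ (μ[G] ▷ P) ≫ act.act := by
    rw [act.mul_act, Iso.inv_hom_id_assoc]
  rw [MonoidalCategory.whiskerLeft_comp, Category.assoc, hm, reassoc_of% h]

/-- A section of a torsor gives a morphism from a trivial torsor. -/
def homOfSec {a : (ofSp X.left).obj} {A : SpQuotObj K G aX}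
    (σ : Over.mk (secYon a ≫ X.hom) ⟶ A.P) (h : σ ≫ A.φ = secOver a) : triv a ⟶ A :=
  have wb : (yon S).map ((yon S).preimage (σ.left ≫ A.π.left)) ≫ A.b = secYon a ≫ X.hom := by
    rw [Functor.map_preimage, Category.assoc]
    exact (congrArg (σ.left ≫ ·) (Over.w A.π)).trans (Over.w σ)
  { base := (yon S).preimage (σ.left ≫ A.π.left)
    wb := wb
    top := (G ◁ σ) ≫ A.act.act
    eqv := triv_eqv A.act σ
    cart := by
      have e : bHom ((yon S).preimage (σ.left ≫ A.π.left)) wb = σ ≫ A.π :=
        Over.OverMorphism.ext ((yon S).map_preimage _)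
      rw [e]
      exact (isPullback_whiskerLeft' σ).paste_horiz A.cart
    wφ := by
      change ((G ◁ σ) ≫ A.act.act) ≫ A.φ = (G ◁ secOver a) ≫ aX.act
      rw [← h, Category.assoc, A.eqv, MonoidalCategory.whiskerLeft_comp, Category.assoc] }

/-- The unit section of a trivial torsor. -/
abbrev unitSec (G : Over B) [GrpObj G] (T : Over B) : T ⟶ G ⊗ T := lift 1 (𝟙 T)

/-- The section defined by a morphism out of a trivial torsor. -/
def secOfHom {a : (ofSp X.left).obj} {A : SpQuotObj K G aX} (h : triv a ⟶ A) :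
    Over.mk (secYon a ≫ X.hom) ⟶ A.P :=
  unitSec G _ ≫ h.top

lemma unit_act {Y : Over B} (act : AlgSp.GAction G Y) {W : Over B} (y : W ⟶ Y) :
    lift (1 : W ⟶ G) y ≫ act.act = y := by
  calc lift (1 : W ⟶ G) y ≫ act.act = lift (toUnit W) y ≫ (η[G] ▷ Y) ≫ act.act := by
        rw [lift_whiskerRight_assoc, ← Hom.one_def]
    _ = _ := by rw [act.one_act, leftUnitor_hom, lift_snd]

lemma secOfHom_π {a : (ofSp X.left).obj} {A : SpQuotObj K G aX} (h : triv a ⟶ A) :
    (secOfHom h).left ≫ A.π.left = (yon S).map h.base := by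
  have hw : h.top ≫ A.π = snd G _ ≫ bHom h.base h.wb := h.cart.w
  have e : secOfHom h ≫ A.π = bHom h.base h.wb := by
    rw [secOfHom, Category.assoc, hw]
    exact (Category.assoc _ _ _).symm.trans
      ((congrArg (· ≫ bHom h.base h.wb) (lift_snd _ _)).trans (Category.id_comp _))
  exact congrArg CommaMorphism.left e

lemma secOfHom_φ {a : (ofSp X.left).obj} {A : SpQuotObj K G aX} (h : triv a ⟶ A) :
    secOfHom h ≫ A.φ = secOver a := by
  have hw : h.top ≫ A.φ = (G ◁ secOver a) ≫ aX.act := h.wφ
  rw [secOfHom, Category.assoc, hw, lift_whiskerLeft_assoc, Category.id_comp, unit_act]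

lemma homOfSec_secOfHom {a : (ofSp X.left).obj} {A : SpQuotObj K G aX} (h : triv a ⟶ A) :
    homOfSec (secOfHom h) (secOfHom_φ h) = h := by
  refine SpQuotObj.hom_ext ((yon S).map_injective (((yon S).map_preimage _).trans (secOfHom_π h))) ?_
  change (G ◁ secOfHom h) ≫ A.act.act = h.top
  have he : (spLeftMul G _).act ≫ h.top = (G ◁ h.top) ≫ A.act.act := h.eqv
  have e1 : ∀ T : Over B, (G ◁ unitSec G T) ≫ (spLeftMul G T).act = 𝟙 (G ⊗ T) := fun T => by
    apply CartesianMonoidalCategory.hom_ext <;> simp [spLeftMul, comp_mul]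
  rw [secOfHom, MonoidalCategory.whiskerLeft_comp, Category.assoc, ← he, reassoc_of% (e1 _)]

lemma secOfHom_homOfSec {a : (ofSp X.left).obj} {A : SpQuotObj K G aX}
    (σ : Over.mk (secYon a ≫ X.hom) ⟶ A.P) (h : σ ≫ A.φ = secOver a) :
    secOfHom (homOfSec σ h) = σ := by
  change unitSec G _ ≫ (G ◁ σ) ≫ A.act.act = σ
  rw [lift_whiskerLeft_assoc, Category.id_comp, unit_act]

end HomOfSec

section Fibre

variable [K.HasIsos] [K.IsStableUnderBaseChange] {V : Over S}
  (y : FibCat.overCat V ⥤ᵇ SpQuotSt K G aX)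

/-- The object of a functor on the slice. -/
abbrev top : SpQuotObj K G aX := y.obj (topObj V)

lemma top_base : (top y).base = V := y.w_obj (topObj V)

/-- The morphism of the torsor to the scheme it lives over. -/
abbrev toBase : (top y).P.left ⟶ (yon S).obj V :=
  (top y).π.left ≫ (yon S).map (eqToHom (top_base y))

/-- The first component of the comparison. -/
abbrev fstFun : ofSp (top y).P.left ⥤ᵇ FibCat.overCat V :=
  BasedFunctor.comp (ofSpMap (toBase y)) (toOverCat V)

/-- The second component of the comparison. -/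
abbrev sndFun : ofSp (top y).P.left ⥤ᵇ ofSp X.left := ofSpMap (top y).φ.left

lemma ptYon_toBase (o : (ofSp (top y).P.left).obj) :
    ptYon o ≫ toBase y = (yon S).map ((fstFun y).obj o).hom :=
  (GrothendieckTopology.uliftYonedaEquiv_symm_naturality_right (AlgSp.J S) o.base (toBase y)
    o.sec).trans ((Equiv.symm_apply_eq _).2
      ((AlgSp.J S).uliftYonedaEquiv_uliftYoneda_map ((fstFun y).obj o).hom).symm)

lemma secYon_sndFun (o : (ofSp (top y).P.left).obj) :
    secYon ((sndFun y).obj o) = ptYon o ≫ (top y).φ.left :=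
  ptYon_map (top y).φ.left o

/-- The section of the torsor over a point of it. -/
abbrev ptSec (o : (ofSp (top y).P.left).obj) :
    Over.mk (secYon ((sndFun y).obj o) ≫ X.hom) ⟶ (top y).P :=
  Over.homMk (ptYon o) (by
    change ptYon o ≫ _ = secYon ((sndFun y).obj o) ≫ X.hom
    rw [secYon_sndFun, Category.assoc, Over.w (top y).φ])

lemma ptSec_φ (o : (ofSp (top y).P.left).obj) :
    ptSec y o ≫ (top y).φ = secOver ((sndFun y).obj o) :=
  Over.OverMorphism.ext (secYon_sndFun y o).symm

/-- The morphism defined by a point of the torsor. -/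
abbrev secMor (o : (ofSp (top y).P.left).obj) : triv ((sndFun y).obj o) ⟶ top y :=
  homOfSec (ptSec y o) (ptSec_φ y o)

lemma base_map {s' s : (FibCat.overCat V).obj} (m : s' ⟶ s) :
    (y.map m).base = eqToHom (y.w_obj s') ≫ m.left ≫ eqToHom (y.w_obj s).symm :=
  Functor.congr_hom y.w m

lemma base_toTop (s : (FibCat.overCat V).obj) :
    (y.map (toTop s)).base ≫ eqToHom (top_base y) = eqToHom (y.w_obj s) ≫ s.hom := by
  rw [base_map, Category.assoc, Category.assoc, eqToHom_trans, eqToHom_refl, Category.comp_id]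
  rfl

lemma base_secMor (o : (ofSp (top y).P.left).obj) :
    (secMor y o).base ≫ eqToHom (top_base y) = ((fstFun y).obj o).hom := by
  apply (yon S).map_injective
  rw [Functor.map_comp, ← ptYon_toBase]
  change (yon S).map ((yon S).preimage (ptYon o ≫ (top y).π.left)) ≫ _ = _
  rw [Functor.map_preimage, Category.assoc]

lemma base_compat (o : (ofSp (top y).P.left).obj) :
    eqToHom (y.w_obj ((fstFun y).obj o)) ≫ (secMor y o).base =
      (y.map (toTop ((fstFun y).obj o))).base := by
  rw [← cancel_mono (eqToHom (top_base y)), base_toTop]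
  exact (Category.assoc _ _ _).trans (congrArg (_ ≫ ·) (base_secMor y o))

/-- The isomorphism from the restriction of the object to the trivial torsor. -/
def ptIso (o : (ofSp (top y).P.left).obj) :
    y.obj ((fstFun y).obj o) ≅ triv ((sndFun y).obj o) where
  hom := cartLift (secMor y o) (y.map (toTop ((fstFun y).obj o)))
    (eqToHom (y.w_obj ((fstFun y).obj o))) (base_compat y o)
  inv := cartLift (y.map (toTop ((fstFun y).obj o))) (secMor y o)
    (eqToHom (y.w_obj ((fstFun y).obj o)).symm)
    (by rw [← base_compat, eqToHom_trans_assoc, eqToHom_refl, Category.id_comp])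
  hom_inv_id := hom_ext' (y.map (toTop ((fstFun y).obj o))) (by simp [cartLift])
    (by rw [Category.assoc, cartLift_comp, cartLift_comp, Category.id_comp])
  inv_hom_id := hom_ext' (secMor y o) (by simp [cartLift])
    (by rw [Category.assoc, cartLift_comp, cartLift_comp, Category.id_comp])

lemma ptIso_hom_comp (o : (ofSp (top y).P.left).obj) :
    (ptIso y o).hom ≫ secMor y o = y.map (toTop ((fstFun y).obj o)) :=
  cartLift_comp (secMor y o) (y.map (toTop ((fstFun y).obj o)))
    (eqToHom (y.w_obj ((fstFun y).obj o))) (base_compat y o)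

lemma map_comp_homOfSec {a a' : (ofSp X.left).obj} (f : a' ⟶ a) {A : SpQuotObj K G aX}
    (σ : Over.mk (secYon a ≫ X.hom) ⟶ A.P) (h : σ ≫ A.φ = secOver a)
    (σ' : Over.mk (secYon a' ≫ X.hom) ⟶ A.P) (h' : σ' ≫ A.φ = secOver a')
    (e : (yon S).map f.hom ≫ σ.left = σ'.left) :
    (spQuotMap K G aX).map f ≫ homOfSec σ h = homOfSec σ' h' := by
  refine SpQuotObj.hom_ext ((yon S).map_injective ?_) ?_
  · change (yon S).map (f.hom ≫ (yon S).preimage (σ.left ≫ A.π.left)) =
      (yon S).map ((yon S).preimage (σ'.left ≫ A.π.left))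
    rw [Functor.map_comp, Functor.map_preimage, Functor.map_preimage, ← e, Category.assoc]
  · change (G ◁ _) ≫ (G ◁ σ) ≫ A.act.act = (G ◁ σ') ≫ A.act.act
    rw [← MonoidalCategory.whiskerLeft_comp_assoc]
    congr 2
    exact Over.OverMorphism.ext e

lemma pt_w {o' o : (ofSp (top y).P.left).obj} (m : o' ⟶ o) :
    y.map ((fstFun y).map m) ≫ (ptIso y o).hom =
      (ptIso y o').hom ≫ (spQuotMap K G aX).map ((sndFun y).map m) := by
  refine hom_ext' (secMor y o) ?_ ?_
  · change (y.map ((fstFun y).map m)).base ≫ eqToHom (y.w_obj ((fstFun y).obj o)) =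
      eqToHom (y.w_obj ((fstFun y).obj o')) ≫ m.hom
    rw [base_map, Category.assoc, Category.assoc, eqToHom_trans, eqToHom_refl, Category.comp_id]
    rfl
  · rw [Category.assoc, ptIso_hom_comp, Category.assoc,
      map_comp_homOfSec ((sndFun y).map m) (ptSec y o) (ptSec_φ y o) (ptSec y o') (ptSec_φ y o')
        (ptYon_comp m), ptIso_hom_comp]
    exact (y.toFunctor.map_comp _ _).symm.trans
      (congrArg y.toFunctor.map (Over.OverMorphism.ext (Over.w ((fstFun y).map m))))

/-- The two-cell of the comparison. -/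
def ptCell : BasedFunctor.comp (fstFun y) y ≅ BasedFunctor.comp (sndFun y) (spQuotMap K G aX) :=
  H14Stk.mkIso (ptIso y) (fun m => pt_w y m) fun o =>
    IsHomLift.of_fac (SpQuotSt K G aX).p _ (ptIso y o).hom (y.w_obj ((fstFun y).obj o)) rfl (by
      change 𝟙 o.base = eqToHom (y.w_obj ((fstFun y).obj o)).symm ≫
        eqToHom (y.w_obj ((fstFun y).obj o)) ≫ 𝟙 _
      simp
      rfl)

/-- The comparison of the torsor with the fibre. -/
def ptFun : ofSp (top y).P.left ⥤ᵇ FibCat.fp y (spQuotMap K G aX) :=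
  FibCat.fpLift (fstFun y) (sndFun y) (ptCell y)

lemma eq_of_sec {o o' : (ofSp (top y).P.left).obj} (g : o'.base ⟶ o.base)
    (e : (yon S).map g ≫ ptYon o = ptYon o') : (top y).P.left.obj.map g.op o.sec = o'.sec := by
  have h := congrArg (AlgSp.J S).uliftYonedaEquiv e
  rw [← GrothendieckTopology.uliftYonedaEquiv_naturality] at h
  simpa using h

lemma ptFun_faithful : (ptFun y).toFunctor.Faithful where
  map_injective := fun {o' o} {m m'} h => Stk.EltObj.hom_ext
    (congrArg (fun φ : (ptFun y).obj o' ⟶ (ptFun y).obj o => φ.hom.snd.hom) h)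

lemma ptFun_full : (ptFun y).toFunctor.Full where
  map_surjective := fun {o' o} φ => by
    let a : (fstFun y).obj o' ⟶ (fstFun y).obj o := φ.hom.fst
    let b : (sndFun y).obj o' ⟶ (sndFun y).obj o := φ.hom.snd
    have hw : y.map a ≫ (ptIso y o).hom = (ptIso y o').hom ≫ (spQuotMap K G aX).map b := φ.hom.w
    have hab : b.hom = a.left := by
      have := congrArg (fun χ => SpQuotObj.Hom.base χ) hw
      change (y.map a).base ≫ eqToHom (y.w_obj ((fstFun y).obj o)) =
        eqToHom (y.w_obj ((fstFun y).obj o')) ≫ b.hom at this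
      rw [base_map, Category.assoc, Category.assoc, eqToHom_trans, eqToHom_refl,
        Category.comp_id, cancel_epi] at this
      exact this.symm
    have h1 : (ptIso y o').hom ≫ (spQuotMap K G aX).map b ≫ secMor y o =
        (ptIso y o').hom ≫ secMor y o' := by
      rw [← Category.assoc, ← hw, Category.assoc, ptIso_hom_comp, ptIso_hom_comp]
      exact (y.toFunctor.map_comp _ _).symm.trans
        (congrArg y.toFunctor.map (Over.OverMorphism.ext (Over.w a)))
    rw [cancel_epi] at h1
    let σ₂ : Over.mk (secYon ((sndFun y).obj o') ≫ X.hom) ⟶ (top y).P :=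
      Over.homMk ((yon S).map b.hom ≫ ptYon o) (by
        change ((yon S).map b.hom ≫ ptYon o) ≫ _ = secYon ((sndFun y).obj o') ≫ X.hom
        rw [← secYon_comp b, secYon_sndFun, Category.assoc, Category.assoc, Category.assoc,
          Over.w (top y).φ])
    have hσ₂ : σ₂ ≫ (top y).φ = secOver ((sndFun y).obj o') := Over.OverMorphism.ext (by
      change ((yon S).map b.hom ≫ ptYon o) ≫ (top y).φ.left = _
      rw [Category.assoc, ← secYon_sndFun, secYon_comp b]
      rfl)
    have h2 : σ₂ = ptSec y o' := by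
      have := congrArg secOfHom ((map_comp_homOfSec b (ptSec y o) (ptSec_φ y o) σ₂ hσ₂ rfl).symm.trans h1)
      rwa [secOfHom_homOfSec, secOfHom_homOfSec] at this
    exact ⟨⟨b.hom, eq_of_sec y b.hom (congrArg CommaMorphism.left h2)⟩,
      fp_hom_ext (Over.OverMorphism.ext hab) (Stk.EltObj.hom_ext rfl)⟩

lemma ptFun_essSurj : EssSurjOver (ptFun y) := by
  intro ξ
  let s : (FibCat.overCat V).obj := ξ.obj.fst
  let t : (ofSp X.left).obj := ξ.obj.snd
  let α : y.obj s ≅ triv t := ξ.obj.iso
  have hW : t.base = s.left := fp_snd_obj ξ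
  have hαb : α.hom.base = eqToHom ((y.w_obj s).trans hW.symm) := by
    have hl : (SpQuotSt K G aX).p.IsHomLift (𝟙 s.left) α.hom := ξ.property
    have := IsHomLift.fac' (SpQuotSt K G aX).p (𝟙 s.left) α.hom
    change α.hom.base = _ at this
    rw [this, Category.id_comp, eqToHom_trans]
  let h : triv t ⟶ top y := α.inv ≫ y.map (toTop s)
  let σ : Over.mk (secYon t ≫ X.hom) ⟶ (top y).P := secOfHom h
  let o : (ofSp (top y).P.left).obj := ptObjOf (T := t.base) σ.left
  have ho : ptYon o = σ.left := ptYon_ptObjOf _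
  have hh : homOfSec σ (secOfHom_φ h) = h := homOfSec_secOfHom h
  have hαi : α.inv.base = eqToHom (hW.trans (y.w_obj s).symm) := by
    have := congrArg SpQuotObj.Hom.base α.inv_hom_id
    rw [SpQuotObj.comp_base, hαb, SpQuotObj.id_base] at this
    rw [← cancel_mono (eqToHom ((y.w_obj s).trans hW.symm)), this, eqToHom_trans, eqToHom_refl]
  have hs : eqToHom hW ≫ s.hom = ((fstFun y).obj o).hom := by
    apply (yon S).map_injective
    rw [← ptYon_toBase, ho, ← Category.assoc, secOfHom_π, ← Functor.map_comp]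
    congr 1
    change _ = (α.inv.base ≫ (y.map (toTop s)).base) ≫ _
    rw [Category.assoc, base_toTop, hαi, eqToHom_trans_assoc]
  let a : (fstFun y).obj o ≅ s := Over.isoMk (eqToIso hW) hs
  have hsec : secYon ((sndFun y).obj o) = secYon t := by
    rw [secYon_sndFun, ho]
    exact congrArg CommaMorphism.left (secOfHom_φ h)
  have hts : ((sndFun y).obj o).sec = t.sec := (AlgSp.J S).uliftYonedaEquiv.symm.injective hsec
  let b : (sndFun y).obj o ≅ t :=
    { hom := ⟨𝟙 _, (ConcreteCategory.congr_hom (X.left.obj.map_id _) _).trans hts.symm⟩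
      inv := ⟨𝟙 _, (ConcreteCategory.congr_hom (X.left.obj.map_id _) _).trans hts⟩
      hom_inv_id := Stk.EltObj.hom_ext (Category.id_comp _)
      inv_hom_id := Stk.EltObj.hom_ext (Category.id_comp _) }
  have hw : y.map a.hom ≫ α.hom = (ptIso y o).hom ≫ (spQuotMap K G aX).map b.hom := by
    refine hom_ext' h ?_ ?_
    · change (y.map a.hom).base ≫ α.hom.base = eqToHom (y.w_obj ((fstFun y).obj o)) ≫ 𝟙 _
      rw [base_map, hαb, show a.hom.left = eqToHom hW from rfl]
      simp
    · have e1 : α.hom ≫ h = y.map (toTop s) := α.hom_inv_id_assoc _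
      have e2 : (spQuotMap K G aX).map b.hom ≫ h = secMor y o := by
        rw [← hh]
        refine map_comp_homOfSec b.hom σ _ (ptSec y o) (ptSec_φ y o) ?_
        change (yon S).map (𝟙 _) ≫ σ.left = ptYon o
        rw [CategoryTheory.Functor.map_id, Category.id_comp, ho]
      rw [Category.assoc, e1, Category.assoc, e2, ptIso_hom_comp]
      exact (y.toFunctor.map_comp _ _).symm.trans
        (congrArg y.toFunctor.map (Over.OverMorphism.ext (Over.w a.hom)))
  refine ⟨o, ObjectProperty.isoMk _ (CategoricalPullback.mkIso a b hw), ?_⟩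
  rw [fp_isHomLift_iff]
  refine IsHomLift.of_fac (FibCat.overCat V).p _ a.hom hW rfl ?_
  change 𝟙 _ = eqToHom _ ≫ eqToHom hW ≫ 𝟙 _
  simp

/-- The fibre of the canonical functor over an object is the torsor. -/
theorem ptFun_isEquivOver : FibCat.IsEquivOver (ptFun y) :=
  (isEquivOver_iff _).2 ⟨⟨ptFun_full y, ptFun_faithful y⟩, ptFun_essSurj y⟩

/-- The projection from the fibre to the slice is the structure map of the torsor. -/
lemma spMapOfOver_ptFun :
    spMapOfOver (BasedFunctor.comp (ptFun y) (FibCat.fpFst y (spQuotMap K G aX))) = toBase y := by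
  apply Sheaf.hom_ext
  ext T x
  apply ULift.ext
  exact Category.id_comp _

end Fibre

end Groth.Agent.H14SpQuot
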