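import Groth.Agent.H14SpQuot.Pieces
import Groth.Agent.H14Quot.QuotStack
import Groth.Agent.H14Stk.Cocone

/-!
# Quotient categories with sheaf torsors are stacks
-/

set_option autoImplicit false
set_option backward.isDefEq.respectTransparency false
set_option backward.isDefEq.respectTransparency.types false

universe u

open CategoryTheory CategoryTheory.Limits MonoidalCategory CartesianMonoidalCategory MonObj GrpObj
open AlgebraicGeometry AlgSt
open AlgSp (yon)

namespace Groth.Agent.H14SpQuot

open H14Quot H14Stk H14Fib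

variable {S : Scheme.{u}} {K : Precoverage Scheme.{u}} {B : AlgSp.Sp S} {G : Over B} [GrpObj G]
  {X : Over B} {aX : AlgSp.GAction G X}

lemma isPullback_transport {T W V : Over S} (h : T = W) {P P' : AlgSp.Sp S} {t : P ⟶ P'}
    {p : P ⟶ (yon S).obj T} {q : P' ⟶ (yon S).obj V} {g : W ⟶ V} :
    IsPullback t (p ≫ (yon S).map (eqToHom h)) q ((yon S).map g) ↔
      IsPullback t p q ((yon S).map (eqToHom h ≫ g)) := by
  subst h; simp

lemma isPullback_of_left {P P₁ P₂ P₃ : Over B} {f : P ⟶ P₁} {g : P ⟶ P₂} {h : P₁ ⟶ P₃}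
    {i : P₂ ⟶ P₃} (sq : IsPullback f.left g.left h.left i.left) : IsPullback f g h i :=
  IsPullback.of_map (Over.forget B) (Over.OverMorphism.ext sq.w) sq

/-- The structure map of a torsor to a scheme equal to its base. -/
noncomputable abbrev projTo (A : SpQuotObj K G aX) {W : Over S} (h : A.base = W) :
    A.P.left ⟶ (yon S).obj W :=
  A.π.left ≫ (yon S).map (eqToHom h)

/-- The section of the base read over a scheme equal to the base of the torsor. -/
noncomputable abbrev secTo (A : SpQuotObj K G aX) {W : Over S} (h : A.base = W) :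
    (yon S).obj W ⟶ B :=
  (yon S).map (eqToHom h.symm) ≫ A.b

lemma projTo_secTo (A : SpQuotObj K G aX) {W : Over S} (h : A.base = W) :
    projTo A h ≫ secTo A h = A.P.hom := by
  subst h; simp only [projTo, secTo, eqToHom_refl, CategoryTheory.Functor.map_id]; exact (congrArg₂ (· ≫ ·) (Category.comp_id _) (Category.id_comp _)).trans (Over.w A.π)

lemma cart_projTo (A : SpQuotObj K G aX) {W : Over S} (h : A.base = W) :
    IsPullback A.act.act.left (snd G A.P).left (projTo A h) (projTo A h) := by
  subst h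
  have e : projTo A rfl = A.π.left := by
    simp only [projTo, eqToHom_refl, CategoryTheory.Functor.map_id]; exact Category.comp_id _
  rw [e]; exact act_cart_left A

lemma loc_projTo (A : SpQuotObj K G aX) {W : Over S} (h : A.base = W) :
    HasSecLoc K (projTo A h) := by
  subst h
  have e : projTo A rfl = A.π.left := by
    simp only [projTo, eqToHom_refl, CategoryTheory.Functor.map_id]; exact Category.comp_id _
  rw [e]; exact A.loc

lemma yon_eqToHom_cancel {T W : Over S} (h : T = W) {Z : AlgSp.Sp S} (z : (yon S).obj T ⟶ Z) :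
    (yon S).map (eqToHom h) ≫ (yon S).map (eqToHom h.symm) ≫ z = z := by
  subst h; simp

section Descent

variable {U : Over S} {R : Sieve U} (H : Stk.sieveCat R ⥤ᵇ SpQuotSt K G aX)

/-- The structure map of a member of the datum. -/
noncomputable abbrev memProj (a : Idx R) : (H.obj a).P.left ⟶ (yon S).obj a.obj.left :=
  projTo (H.obj a) (H.w_obj a)

/-- The section of a member of the datum. -/
noncomputable abbrev memSec (a : Idx R) : (yon S).obj a.obj.left ⟶ B :=
  secTo (H.obj a) (H.w_obj a)

lemma map_base {a b : Idx R} (m : a ⟶ b) :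
    (H.map m).base = eqToHom (H.w_obj a) ≫ m.hom.left ≫ eqToHom (H.w_obj b).symm :=
  Functor.congr_hom H.w m

lemma map_cart {a b : Idx R} (m : a ⟶ b) :
    IsPullback (H.map m).top.left (memProj H a) (memProj H b) ((yon S).map m.hom.left) := by
  refine (isPullback_transport _).2 ?_
  have h2 : IsPullback ((yon S).map (H.map m).base) (𝟙 ((yon S).obj (H.obj a).base))
      ((yon S).map (eqToHom (H.w_obj b))) ((yon S).map ((H.map m).base ≫ eqToHom (H.w_obj b))) :=
    IsPullback.of_vert_isIso ⟨by rw [Category.id_comp, Functor.map_comp]⟩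
  have h := (cart_left (H.map m)).paste_vert h2
  erw [Category.comp_id] at h
  have e : (H.map m).base ≫ eqToHom (H.w_obj b) = eqToHom (H.w_obj a) ≫ m.hom.left := by
    rw [map_base]; simp
  rw [e] at h
  exact h

lemma map_sec {a b : Idx R} (m : a ⟶ b) :
    (yon S).map m.hom.left ≫ memSec H b = memSec H a := by
  have h := (H.map m).wb
  rw [map_base, Functor.map_comp, Category.assoc, Functor.map_comp, Category.assoc] at h
  rw [← cancel_epi ((yon S).map (eqToHom (H.w_obj a)))]
  exact h.trans (yon_eqToHom_cancel (H.w_obj a) _).symm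

variable (c : GlueCocone H)

/-- The structure map of the object of a cocone. -/
noncomputable abbrev ptProj : c.pt.P.left ⟶ (yon S).obj U := projTo c.pt c.pt_obj

lemma θ_base (a : Idx R) :
    (c.θ a).base = eqToHom (H.w_obj a) ≫ a.obj.hom ≫ eqToHom c.pt_obj.symm := by
  have := c.lift a
  exact IsHomLift.fac' (SpQuotSt K G aX).p a.obj.hom (c.θ a)

lemma θ_cart (a : Idx R) :
    IsPullback (c.θ a).top.left (memProj H a) (ptProj H c) ((yon S).map a.obj.hom) := by
  refine (isPullback_transport _).2 ?_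
  have h2 : IsPullback ((yon S).map (c.θ a).base) (𝟙 ((yon S).obj (H.obj a).base))
      ((yon S).map (eqToHom c.pt_obj)) ((yon S).map ((c.θ a).base ≫ eqToHom c.pt_obj)) :=
    IsPullback.of_vert_isIso ⟨by rw [Category.id_comp, Functor.map_comp]⟩
  have h := (cart_left (c.θ a)).paste_vert h2
  erw [Category.comp_id] at h
  have e : (c.θ a).base ≫ eqToHom c.pt_obj = eqToHom (H.w_obj a) ≫ a.obj.hom := by
    rw [θ_base]; simp
  rw [e] at h
  exact h

/-- The pieces of the object of a cocone. -/
noncomputable def conePieces : BPieces R (ptProj H c) where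
  obj a := (H.obj a).P
  proj a := memProj H a
  inc a := (c.θ a).top
  cart a := θ_cart H c a

lemma trans_eq {a b : Idx R} (m : a.obj ⟶ b.obj) {k : (H.obj a).P ⟶ (H.obj b).P}
    (h₁ : k ≫ (c.θ b).top = (c.θ a).top)
    (h₂ : k.left ≫ memProj H b = memProj H a ≫ (yon S).map m.left) :
    k = (H.map (ObjectProperty.homMk m : a ⟶ b)).top :=
  Over.OverMorphism.ext ((θ_cart H c b).hom_ext
    ((congrArg CommaMorphism.left h₁).trans
      (congrArg (fun q => (SpQuotObj.Hom.top q).left) (c.nat (ObjectProperty.homMk m))).symm)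
    (h₂.trans (map_cart H (ObjectProperty.homMk m : a ⟶ b)).w.symm))

variable (hR : R ∈ AlgSp.J S U)

include hR in
lemma cone_top (c' : GlueCocone H) :
    ∃ f : c.pt.P ⟶ c'.pt.P, (∀ a, (c.θ a).top ≫ f = (c'.θ a).top) ∧
      c.pt.act.act ≫ f = (G ◁ f) ≫ c'.pt.act.act ∧ f.left ≫ ptProj H c' = ptProj H c ∧
        f ≫ c'.pt.φ = c.pt.φ := by
  obtain ⟨f, hf⟩ := (conePieces H c).exists_glue hR (f := fun a => (c'.θ a).top)
    fun a b m k h₁ h₂ => by
      rw [trans_eq H c m h₁ h₂]
      exact congrArg SpQuotObj.Hom.top (c'.nat _)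
  have hf : ∀ a, (c.θ a).top ≫ f = (c'.θ a).top := hf
  refine ⟨f, hf, ((conePieces H c).whisker G).hom_ext hR fun a => ?_,
    (conePieces H c).toPieces.hom_ext hR fun a => ?_, (conePieces H c).hom_ext hR fun a => ?_⟩
  · change (G ◁ (c.θ a).top) ≫ _ = (G ◁ (c.θ a).top) ≫ _
    rw [← Category.assoc, ← (c.θ a).eqv, Category.assoc, hf, (c'.θ a).eqv,
      ← MonoidalCategory.whiskerLeft_comp_assoc, hf]
  · change (c.θ a).top.left ≫ f.left ≫ ptProj H c' = (c.θ a).top.left ≫ ptProj H c
    rw [← Category.assoc, ← Over.comp_left, hf, (θ_cart H c' a).w, (θ_cart H c a).w]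
  · change (c.θ a).top ≫ _ = (c.θ a).top ≫ _
    rw [← Category.assoc, hf, (c'.θ a).wφ, (c.θ a).wφ]

end Descent

lemma glueHom_spQuot {U : Over S} {R : Sieve U} (hR : R ∈ AlgSp.J S U) :
    GlueHom (SpQuotSt K G aX) R := by
  refine ⟨fun H c c' => ?_, fun H c x f g hf hg h => ?_⟩
  · obtain ⟨f, hf, heq, hπ, hφ⟩ := cone_top H c hR c'
    obtain ⟨g, hg, -⟩ := cone_top H c' hR c
    have : IsIso f := ⟨g,
      (conePieces H c).hom_ext hR fun a => (by
        change (c.θ a).top ≫ f ≫ g = (c.θ a).top ≫ 𝟙 _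
        rw [← Category.assoc, hf, hg, Category.comp_id]),
      (conePieces H c').hom_ext hR fun a => (by
        change (c'.θ a).top ≫ g ≫ f = (c'.θ a).top ≫ 𝟙 _
        rw [← Category.assoc, hg, hf, Category.comp_id])⟩
    let e₀ : c.pt.base ⟶ c'.pt.base := eqToHom (c.pt_obj.trans c'.pt_obj.symm)
    have hw : f.left ≫ c'.pt.π.left = c.pt.π.left ≫ (yon S).map e₀ := by
      rw [← cancel_mono ((yon S).map (eqToHom c'.pt_obj)), Category.assoc, Category.assoc,
        ← Functor.map_comp, eqToHom_trans]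
      exact hπ
    have wb : (yon S).map e₀ ≫ c'.pt.b = c.pt.b := by
      have hh : ∀ a : Idx R, (yon S).map a.obj.hom ≫ secTo c.pt c.pt_obj =
          (yon S).map a.obj.hom ≫ secTo c'.pt c'.pt_obj := fun a => by
        have h1 := (c.θ a).wb
        have h2 := (c'.θ a).wb
        rw [θ_base] at h1 h2
        simp only [Functor.map_comp, Category.assoc] at h1 h2
        rw [secTo, secTo, ← cancel_epi ((yon S).map (eqToHom (H.w_obj a))), h1, h2]
      have hs : secTo c.pt c.pt_obj = secTo c'.pt c'.pt_obj :=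
        yon_ext hR fun W k hk => hh (idxMk k hk)
      rw [← cancel_epi ((yon S).map (eqToHom c.pt_obj.symm)), ← Category.assoc, ← Functor.map_comp,
        eqToHom_trans]
      exact hs.symm
    let χ : c.pt ⟶ c'.pt :=
      { base := e₀
        wb := wb
        top := f
        eqv := heq
        cart := isPullback_of_left
          (show IsPullback f.left c.pt.π.left c'.pt.π.left ((yon S).map e₀) from
            IsPullback.of_horiz_isIso ⟨hw⟩)
        wφ := hφ }
    refine ⟨χ, IsHomLift.of_fac (SpQuotSt K G aX).p _ χ c.pt_obj c'.pt_obj ?_, fun a => ?_⟩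
    · change 𝟙 U = eqToHom c.pt_obj.symm ≫ eqToHom (c.pt_obj.trans c'.pt_obj.symm) ≫
        eqToHom c'.pt_obj
      simp
    · refine SpQuotObj.hom_ext ?_ (hf a)
      have h1 := θ_base H c a
      have h2 := θ_base H c' a
      change (c.θ a).base ≫ eqToHom (c.pt_obj.trans c'.pt_obj.symm) = (c'.θ a).base
      rw [h1, h2]
      simp
  · have hb : f.base = g.base := by
      have := hf
      have := hg
      have h1 := IsHomLift.fac' (SpQuotSt K G aX).p (𝟙 U) f
      have h2 := IsHomLift.fac' (SpQuotSt K G aX).p (𝟙 U) g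
      exact h1.trans h2.symm
    exact SpQuotObj.hom_ext hb
      ((conePieces H c).hom_ext hR fun a => congrArg SpQuotObj.Hom.top (h a))

section CartPieces

variable {Y P : Over B} {U : Over S} {R : Sieve U} {γ : P.left ⟶ (yon S).obj U} (T : BPieces R γ)

omit [GrpObj G] in
/-- A map is a pseudo-torsor action if it is one on pieces. -/
lemma cart_of_pieces (hR : R ∈ AlgSp.J S U) (act : G ⊗ P ⟶ P)
    (actb : ∀ b, G ⊗ T.obj b ⟶ T.obj b)
    (hcart : ∀ b, IsPullback (actb b).left (snd G (T.obj b)).left (T.proj b) (T.proj b))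
    (hact : ∀ b, (G ◁ T.inc b) ≫ act = actb b ≫ T.inc b) :
    IsPullback act.left (snd G P).left γ γ := by
  have hact' : ∀ b, (G ◁ T.inc b).left ≫ act.left = (actb b).left ≫ (T.inc b).left := fun b => by
    rw [← Over.comp_left, ← Over.comp_left, hact]
  have hsnd : ∀ b, (G ◁ T.inc b).left ≫ (snd G P).left = (snd G (T.obj b)).left ≫ (T.inc b).left :=
    fun b => by rw [← Over.comp_left, ← Over.comp_left, whiskerLeft_snd]
  have w : act.left ≫ γ = (snd G P).left ≫ γ := (T.whisker G).toPieces.hom_ext hR fun b => by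
    change (G ◁ T.inc b).left ≫ act.left ≫ γ = (G ◁ T.inc b).left ≫ (snd G P).left ≫ γ
    rw [reassoc_of% (hact' b), (T.cart b).w, reassoc_of% (hsnd b), (T.cart b).w,
      reassoc_of% (hcart b).w]
  have huniq : ∀ {Y : AlgSp.Sp S} (x x' : Y ⟶ (G ⊗ P).left), x ≫ act.left = x' ≫ act.left →
      x ≫ (snd G P).left = x' ≫ (snd G P).left → x = x' := fun {Y} x x' e₁ e₂ => by
    let E := Pieces.canonical R (x ≫ (snd G P).left ≫ γ)
    refine E.hom_ext hR fun b => ?_
    have hw : (E.ι b ≫ x) ≫ (snd G P).left ≫ γ = E.proj b ≫ (yon S).map b.obj.hom := by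
      rw [Category.assoc]; exact (E.cart b).w
    have hw' : (E.ι b ≫ x') ≫ (snd G P).left ≫ γ = E.proj b ≫ (yon S).map b.obj.hom := by
      rw [← hw, Category.assoc, Category.assoc, ← Category.assoc x', ← e₂, Category.assoc]
    let z := ((T.whisker G).cart b).lift (E.ι b ≫ x) (E.proj b) hw
    let z' := ((T.whisker G).cart b).lift (E.ι b ≫ x') (E.proj b) hw'
    have hz₁ : z ≫ (G ◁ T.inc b).left = E.ι b ≫ x := IsPullback.lift_fst _ _ _ _
    have hz₁' : z' ≫ (G ◁ T.inc b).left = E.ι b ≫ x' := IsPullback.lift_fst _ _ _ _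
    have hz₂ : z ≫ (snd G _).left ≫ T.proj b = E.proj b := IsPullback.lift_snd _ _ _ _
    have hz₂' : z' ≫ (snd G _).left ≫ T.proj b = E.proj b := IsPullback.lift_snd _ _ _ _
    suffices z = z' by rw [← hz₁, ← hz₁', this]
    refine (hcart b).hom_ext ?_ ?_
    · refine (T.cart b).hom_ext ?_ ?_
      · rw [Category.assoc, Category.assoc, ← hact', reassoc_of% hz₁, reassoc_of% hz₁', e₁]
      · rw [Category.assoc, Category.assoc, (hcart b).w, hz₂, hz₂']
    · refine (T.cart b).hom_ext ?_ ?_
      · have h3 : ∀ (q : E.obj b ⟶ (G ⊗ T.obj b).left),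
            (q ≫ (snd G (T.obj b)).left) ≫ (T.inc b).left =
              (q ≫ (G ◁ T.inc b).left) ≫ (snd G P).left := fun q => by
          rw [Category.assoc, Category.assoc, hsnd]
        refine (h3 z).trans (Eq.trans ?_ (h3 z').symm)
        rw [hz₁, hz₁', Category.assoc, Category.assoc, e₂]
      · rw [Category.assoc, Category.assoc]
        exact hz₂.trans hz₂'.symm
  have hex : ∀ {Y : AlgSp.Sp S} (x x' : Y ⟶ P.left), x ≫ γ = x' ≫ γ →
      ∃ l : Y ⟶ (G ⊗ P).left, l ≫ act.left = x ∧ l ≫ (snd G P).left = x' := fun {Y} x x' e => by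
    let E := Pieces.canonical R (x ≫ γ)
    have hu : ∀ b, (E.ι b ≫ x) ≫ γ = E.proj b ≫ (yon S).map b.obj.hom := fun b => by
      rw [Category.assoc]; exact (E.cart b).w
    have hv : ∀ b, (E.ι b ≫ x') ≫ γ = E.proj b ≫ (yon S).map b.obj.hom := fun b => by
      rw [Category.assoc, ← e]; exact (E.cart b).w
    let w₁ : ∀ b, E.obj b ⟶ (G ⊗ T.obj b).left := fun b =>
      (hcart b).lift ((T.cart b).lift _ _ (hu b)) ((T.cart b).lift _ _ (hv b))
        (by rw [IsPullback.lift_snd, IsPullback.lift_snd])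
    have hw₁ : ∀ b, (w₁ b ≫ (G ◁ T.inc b).left) ≫ act.left = E.ι b ≫ x := fun b => by
      rw [Category.assoc, hact', ← Category.assoc, IsPullback.lift_fst, IsPullback.lift_fst]
    have hw₂ : ∀ b, (w₁ b ≫ (G ◁ T.inc b).left) ≫ (snd G P).left = E.ι b ≫ x' := fun b => by
      rw [Category.assoc, hsnd, ← Category.assoc, IsPullback.lift_snd, IsPullback.lift_fst]
    obtain ⟨l, hl⟩ := E.exists_glue hR (f := fun b => w₁ b ≫ (G ◁ T.inc b).left)
      fun b b' m k h₁ h₂ => by
        apply huniq
        · rw [Category.assoc, hw₁, reassoc_of% h₁, hw₁]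
        · rw [Category.assoc, hw₂, reassoc_of% h₁, hw₂]
    exact ⟨l, E.hom_ext hR fun b => by rw [← Category.assoc, hl, hw₁],
      E.hom_ext hR fun b => by rw [← Category.assoc, hl, hw₂]⟩
  refine ⟨⟨w⟩, ⟨PullbackCone.IsLimit.mk w (fun s => (hex s.fst s.snd s.condition).choose)
    (fun s => (hex s.fst s.snd s.condition).choose_spec.1)
    (fun s => (hex s.fst s.snd s.condition).choose_spec.2)
    (fun s m h₁ h₂ => huniq _ _ ?_ ?_)⟩⟩
  · rw [h₁, (hex s.fst s.snd s.condition).choose_spec.1]
  · rw [h₂, (hex s.fst s.snd s.condition).choose_spec.2]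

end CartPieces

section Exists

local notation "K₀" => Scheme.fppfPrecoverage

variable {U : Over S} {R : Sieve U} (H : Stk.sieveCat R ⥤ᵇ SpQuotSt K₀ G aX)

/-- The sheaf descent datum of a datum of torsors. -/
noncomputable def sheafDatum : Datum R where
  P a := (H.obj a).P.left
  π a := memProj H a
  φ m := (H.map m).top.left
  cart m := map_cart H m
  φ_id a := by rw [H.toFunctor.map_id, SpQuotObj.id_top, Over.id_left]
  φ_comp m n := by rw [H.toFunctor.map_comp, SpQuotObj.comp_top, Over.comp_left]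

lemma exists_cocone (hJ : R ∈ AlgSp.J S U) : Nonempty (GlueCocone H) := by
  let D := sheafDatum H
  obtain ⟨bU, hbU⟩ := yon_glue (Q := B) hJ (fun W k hk => memSec H (idxMk k hk))
    (fun W W' l k hk => map_sec H
      (ObjectProperty.homMk (Over.homMk l) : idxMk (l ≫ k) (R.downward_closed hk l) ⟶ idxMk k hk))
  have hbU : ∀ a : Idx R, (yon S).map a.obj.hom ≫ bU = memSec H a :=
    fun a => hbU a.obj.hom a.property
  let P : Over B := Over.mk (D.proj ≫ bU)
  let θ : ∀ a : Idx R, (H.obj a).P ⟶ P := fun a => Over.homMk (D.incl a) (by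
    change D.incl a ≫ D.proj ≫ bU = _
    rw [reassoc_of% (D.incl_cart a).w, hbU]
    exact projTo_secTo _ _)
  let T : BPieces R (P := P) D.proj :=
    { obj := fun a => (H.obj a).P, proj := fun a => memProj H a, inc := θ, cart := D.incl_cart }
  have hnat : ∀ {a a' : Idx R} (m : a ⟶ a'), (H.map m).top ≫ θ a' = θ a :=
    fun m => Over.OverMorphism.ext (D.φ_incl m)
  have htr : ∀ {a a' : Idx R} (m : a.obj ⟶ a'.obj) {k : (H.obj a).P ⟶ (H.obj a').P},
      k ≫ θ a' = θ a → k.left ≫ memProj H a' = memProj H a ≫ (yon S).map m.left →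
        k = (H.map (ObjectProperty.homMk m : a ⟶ a')).top := fun {a a'} m {k} h₁ h₂ =>
    Over.OverMorphism.ext ((D.incl_cart a').hom_ext
      ((congrArg CommaMorphism.left h₁).trans (D.φ_incl _).symm)
      (h₂.trans (map_cart H _).w.symm))
  obtain ⟨act, hact⟩ := (T.whisker G).exists_glue hJ (f := fun a => (H.obj a).act.act ≫ θ a)
    fun a a' m k h₁ h₂ => by
      have hk : k = G ◁ (H.map (ObjectProperty.homMk m : a ⟶ a')).top := by
        refine Over.OverMorphism.ext (((T.whisker G).cart a').hom_ext ?_ ?_)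
        · refine (congrArg CommaMorphism.left h₁).trans ?_
          change (G ◁ θ a).left = (G ◁ _).left ≫ (G ◁ θ a').left
          rw [← Over.comp_left, ← MonoidalCategory.whiskerLeft_comp, hnat]
        · refine h₂.trans ?_
          change ((snd G _).left ≫ memProj H a) ≫ (yon S).map m.left =
            (G ◁ _).left ≫ (snd G _).left ≫ memProj H a'
          have e : (G ◁ (H.map (ObjectProperty.homMk m : a ⟶ a')).top).left ≫
              (snd G (H.obj a').P).left =
              (snd G (H.obj a).P).left ≫ (H.map (ObjectProperty.homMk m : a ⟶ a')).top.left :=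
            congrArg CommaMorphism.left
              (whiskerLeft_snd G (H.map (ObjectProperty.homMk m : a ⟶ a')).top)
          refine Eq.trans ?_ ((congrArg (· ≫ memProj H a') e).symm.trans (Category.assoc _ _ _))
          refine Eq.trans ?_ (Category.assoc _ _ _).symm
          rw [(map_cart H _).w]
          exact Category.assoc _ _ _
      change k ≫ (H.obj a').act.act ≫ θ a' = (H.obj a).act.act ≫ θ a
      rw [hk, ← Category.assoc, ← (H.map _).eqv, Category.assoc, hnat]
  have hact : ∀ a, (G ◁ θ a) ≫ act = (H.obj a).act.act ≫ θ a := hact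
  let A : AlgSp.GAction G P :=
    { act := act
      one_act := (T.whisker (𝟙_ (Over B))).hom_ext hJ fun a => by
        change (𝟙_ _ ◁ θ a) ≫ (η[G] ▷ P) ≫ act = (𝟙_ _ ◁ θ a) ≫ (λ_ P).hom
        rw [whisker_exchange_assoc, hact, reassoc_of% (H.obj a).act.one_act,
          leftUnitor_naturality]
      mul_act := (T.whisker (G ⊗ G)).hom_ext hJ fun a => by
        change ((G ⊗ G) ◁ θ a) ≫ (μ[G] ▷ P) ≫ act =
          ((G ⊗ G) ◁ θ a) ≫ (α_ G G P).hom ≫ (G ◁ act) ≫ act
        rw [whisker_exchange_assoc, hact, reassoc_of% (H.obj a).act.mul_act,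
          associator_naturality_right_assoc, ← MonoidalCategory.whiskerLeft_comp_assoc, hact,
          MonoidalCategory.whiskerLeft_comp_assoc, hact] }
  obtain ⟨φ, hφ⟩ := T.exists_glue hJ (f := fun a => (H.obj a).φ) fun a a' m k h₁ h₂ => by
    rw [htr m h₁ h₂]
    exact (H.map _).wφ
  have hφ : ∀ a, θ a ≫ φ = (H.obj a).φ := hφ
  have hcart : IsPullback act.left (snd G P).left D.proj D.proj :=
    cart_of_pieces T hJ act (fun a => (H.obj a).act.act)
      (fun a => cart_projTo (H.obj a) (H.w_obj a)) hact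
  let π : P ⟶ Over.mk bU := Over.homMk D.proj rfl
  obtain ⟨κ, Z, g, hg, hgR⟩ := exists_family (K := K₀) hJ
  have hloc : HasSecLoc K₀ π.left := by
    let cc : ∀ i, Over.mk (g i ≫ U.hom) ⟶ U := fun i => Over.homMk (g i) rfl
    let a : κ → Idx R := fun i => idxMk (cc i) (hgR i)
    have hmem : ∀ i, ∃ (κ' : Type (u + 1)) (Z' : κ' → Scheme.{u}) (g' : ∀ j, Z' j ⟶ Z i),
        Presieve.ofArrows Z' g' ∈ K₀ (Z i) ∧ ∀ j, ∃ s : (yon S).obj (Over.mk (g' j ≫ g i ≫ U.hom)) ⟶
          (H.obj (a i)).P.left, s ≫ memProj H (a i) = (yon S).map (Over.homMk (g' j)) := fun i => by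
      obtain ⟨R', hR', hs'⟩ := loc_projTo (H.obj (a i)) (H.w_obj (a i))
      obtain ⟨κ', Z', g', rfl⟩ := Presieve.exists_eq_ofArrows R'
      exact ⟨κ', Z', g', hR', fun j => hs' (g' j) ⟨j⟩⟩
    choose κ' Z' g' hg'' s hs using hmem
    refine ⟨Presieve.ofArrows (fun p : Σ i, κ' i => Z' p.1 p.2) (fun p => g' p.1 p.2 ≫ g p.1),
      Precoverage.comp_mem_coverings g hg g' hg'', ?_⟩
    rintro _ _ ⟨⟨i, j⟩⟩
    let l : Over.mk ((g' i j ≫ g i) ≫ U.hom) ⟶ Over.mk (g' i j ≫ g i ≫ U.hom) :=
      Over.homMk (𝟙 (Z' i j)) (by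
        change 𝟙 _ ≫ g' i j ≫ g i ≫ U.hom = (g' i j ≫ g i) ≫ U.hom
        rw [Category.id_comp, Category.assoc])
    refine ⟨(yon S).map l ≫ s i j ≫ (θ (a i)).left, ?_⟩
    change ((yon S).map l ≫ s i j ≫ D.incl (a i)) ≫ D.proj = _
    refine (Category.assoc _ _ _).trans ((congrArg ((yon S).map l ≫ ·) ((Category.assoc _ _ _).trans
      ((congrArg (s i j ≫ ·) (D.incl_cart (a i)).w).trans ((Category.assoc _ _ _).symm.trans
        (congrArg (· ≫ (yon S).map (a i).obj.hom) (hs i j)))))).trans ?_)
    refine (congrArg ((yon S).map l ≫ ·) ((yon S).map_comp _ _).symm).trans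
      (((yon S).map_comp _ _).symm.trans ?_)
    exact congrArg (yon S).map (Over.OverMorphism.ext (Category.id_comp _))
  let pt : SpQuotObj K₀ G aX :=
    { base := U
      b := bU
      P := P
      act := A
      π := π
      cart := isPullback_of_left hcart
      loc := hloc
      φ := φ
      eqv := (T.whisker G).hom_ext hJ fun a => by
        change (G ◁ θ a) ≫ act ≫ φ = (G ◁ θ a) ≫ (G ◁ φ) ≫ aX.act
        rw [reassoc_of% (hact a), hφ, (H.obj a).eqv, ← MonoidalCategory.whiskerLeft_comp_assoc, hφ] }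
  let θh : ∀ a : Idx R, H.obj a ⟶ pt := fun a =>
    { base := eqToHom (H.w_obj a) ≫ a.obj.hom
      wb := by
        change (yon S).map (eqToHom (H.w_obj a) ≫ a.obj.hom) ≫ bU = _
        rw [Functor.map_comp, Category.assoc, hbU, memSec, secTo, ← Category.assoc,
          ← Functor.map_comp, eqToHom_trans, eqToHom_refl, CategoryTheory.Functor.map_id,
          Category.id_comp]
      top := θ a
      eqv := (hact a).symm
      cart := isPullback_of_left ((isPullback_transport _).1 (D.incl_cart a))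
      wφ := hφ a }
  exact ⟨{ pt := pt
           pt_obj := rfl
           θ := θh
           lift := fun a => IsHomLift.of_fac (SpQuotSt K₀ G aX).p _ (θh a) (H.w_obj a) rfl (by
             change a.obj.hom = eqToHom (H.w_obj a).symm ≫ (eqToHom (H.w_obj a) ≫ a.obj.hom) ≫ 𝟙 U
             simp)
           nat := fun {a a'} m => SpQuotObj.hom_ext (by
               change (H.map m).base ≫ eqToHom (H.w_obj a') ≫ a'.obj.hom =
                 eqToHom (H.w_obj a) ≫ a.obj.hom
               rw [map_base]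
               simp only [Category.assoc, eqToHom_trans_assoc, eqToHom_refl, Category.id_comp]
               congr 1
               exact Over.w m.hom) (hnat m) }⟩

/-- Quotient categories with sheaf torsors are stacks. -/
theorem isStack_spQuot : Stk.IsStack (AlgSp.J S) (SpQuotSt K₀ G aX) :=
  isStack_of_glue spQuot_fibGrpd fun _ _ hR => ⟨glueHom_spQuot hR, fun H => exists_cocone H hR⟩

end Exists

end Groth.Agent.H14SpQuot
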