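import Groth.Agent.H14SpQuot.AutSheaf
import Groth.Agent.H14SpQuot.Chart
import Groth.Agent.H14SpQuot.Stack
import Groth.Agent.H14Quot.QuotStack
import Groth.Agent.H14Stk.EquivFF
import Groth.Prelude.Def_W4stkstmgerbesQuotBase

/-!
# A gerbe over an algebraic space with a section is the classifying stack of its automorphisms
-/

set_option autoImplicit false
set_option backward.isDefEq.respectTransparency false
set_option backward.isDefEq.respectTransparency.types false

universe u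

open CategoryTheory CategoryTheory.Limits Opposite AlgebraicGeometry
open MonoidalCategory CartesianMonoidalCategory MonObj
open AlgSp (yon)

noncomputable section

namespace Groth.Agent.H14SpQuot

open H14Fib H14Stk H14AlgSt Gerb AlgSt

variable {S : Scheme.{u}} {B : AlgSp.Sp S} {𝒳 : AlgSt.Cat S}

local notation "K₀" => Scheme.fppfPrecoverage

section Eval

variable {x : AlgSt.ofSp B ⥤ᵇ 𝒳} {h : FibCat.IsFibGrpd 𝒳.p}
  (hs : Presheaf.IsSheaf (AlgSp.J S) (autPsh x h))

lemma evAt_bijective (a : (AlgSt.ofSp B).obj) {b : (yon S).obj a.base ⟶ B} (hb : b = pointHom a) :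
    Function.Bijective (evAt hs a hb) := by
  let m := toPtOf a hb
  let n : (AlgSt.ofSpMap b).obj (idPt a.base) ⟶ a :=
    (⟨𝟙 a.base, by
      rw [← m.map_sec]
      change B.obj.map (𝟙 (op a.base)) (B.obj.map (𝟙 (op a.base)) _) = _
      rw [FunctorToTypes.map_id_apply, FunctorToTypes.map_id_apply]
      rfl⟩ : (⟨a.base, b.hom.app (op a.base) ⟨𝟙 a.base⟩⟩ : Stk.EltObj B.obj) ⟶ ⟨a.base, a.sec⟩)
  refine Function.Bijective.comp (g := res x h m)
    (Function.bijective_iff_has_inverse.2 ⟨res x h n, fun α => ?_, fun α => ?_⟩) (evPt_bijective hs b)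
  · rw [res_comp]
    exact (res_congr x h (g := 𝟙 _) (Category.id_comp (𝟙 a.base)) α).trans (res_id x h α)
  · rw [res_comp]
    exact (res_congr x h (g := 𝟙 _) (Category.id_comp (𝟙 a.base)) α).trans (res_id x h α)

lemma evAt_mul (a : (AlgSt.ofSp B).obj) {b : (yon S).obj a.base ⟶ B} (hb : b = pointHom a)
    (φ ψ : Over.mk b ⟶ autG x h hs) :
    letI := autGrp x h hs
    evAt hs a hb (φ * ψ) = evAt hs a hb φ * evAt hs a hb ψ := by
  letI := autGrp x h hs
  change res x h _ (evPt hs (φ * ψ)) = _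
  rw [evPt_mul, res_mul]
  rfl

lemma evAt_natural {a' a : (AlgSt.ofSp B).obj} (m : a' ⟶ a) {b' : (yon S).obj a'.base ⟶ B}
    {b : (yon S).obj a.base ⟶ B} (hb' : b' = pointHom a') (hb : b = pointHom a)
    (wb : (yon S).map m.hom ≫ b = b') (φ : Over.mk b ⟶ autG x h hs) :
    evAt hs a' hb' ((Over.homMk ((yon S).map m.hom) wb : Over.mk b' ⟶ Over.mk b) ≫ φ) =
      res x h m (evAt hs a hb φ) := by
  change res x h _ (evPt hs _) = res x h m (res x h _ _)
  rw [evPt_natural hs m.hom wb φ, res_comp, res_comp]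
  refine res_congr x h ?_ _
  change 𝟙 _ ≫ (idPtMap m.hom wb).hom = m.hom ≫ 𝟙 _
  rw [idPtMap_hom, Category.id_comp, Category.comp_id]

end Eval

/-- The evaluation of a group sheaf on the automorphisms of the values of a section. -/
structure AutEval (x : AlgSt.ofSp B ⥤ᵇ 𝒳) (h : FibCat.IsFibGrpd 𝒳.p) (G : Over B) [GrpObj G] where
  /-- the evaluation -/
  ev : ∀ (a : (AlgSt.ofSp B).obj) {b : (yon S).obj a.base ⟶ B}, b = pointHom a →
    (Over.mk b ⟶ G) → AutO (x.obj a)
  bij : ∀ (a : (AlgSt.ofSp B).obj) {b : (yon S).obj a.base ⟶ B} (hb : b = pointHom a),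
    Function.Bijective (ev a hb)
  mul : ∀ (a : (AlgSt.ofSp B).obj) {b : (yon S).obj a.base ⟶ B} (hb : b = pointHom a)
    (φ ψ : Over.mk b ⟶ G), ev a hb (φ * ψ) = ev a hb φ * ev a hb ψ
  nat : ∀ {a' a : (AlgSt.ofSp B).obj} (m : a' ⟶ a) {b' : (yon S).obj a'.base ⟶ B}
    {b : (yon S).obj a.base ⟶ B} (hb' : b' = pointHom a') (hb : b = pointHom a)
    (wb : (yon S).map m.hom ≫ b = b') (φ : Over.mk b ⟶ G),
    ev a' hb' ((Over.homMk ((yon S).map m.hom) wb : Over.mk b' ⟶ Over.mk b) ≫ φ) =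
      res x h m (ev a hb φ)

section Neutral

variable {x : AlgSt.ofSp B ⥤ᵇ 𝒳} {h : FibCat.IsFibGrpd 𝒳.p} {G : Over B} [GrpObj G]
  (r : AutEval x h G)

variable (G) in
/-- The trivial torsor over a point of the base. -/
abbrev trivTors (a : (AlgSt.ofSp B).obj) : (AlgSt.SpBG K₀ G).obj :=
  triv (K := K₀) (aX := AlgSt.trivGAction G)
    (show (AlgSt.ofSp (𝟙_ (Over B)).left).obj from a)

omit [GrpObj G] in
lemma base_hom (a : (AlgSt.ofSp B).obj) :
    (secYon (X := 𝟙_ (Over B)) (show (AlgSt.ofSp (𝟙_ (Over B)).left).obj from a)) ≫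
      (𝟙_ (Over B)).hom = pointHom a :=
  Category.comp_id _

variable (G) in
/-- The point of the base of a trivial torsor. -/
abbrev trivBase (a : (AlgSt.ofSp B).obj) : Over B := Over.mk (trivTors G a).b

/-- The morphism of points attached to a morphism of trivial torsors. -/
def torsMor {a' a : (AlgSt.ofSp B).obj} (k : trivTors G a' ⟶ trivTors G a) : a' ⟶ a :=
  (⟨k.base, by
    have e : (yon S).map k.base ≫ pointHom a = pointHom a' := by
      rw [← base_hom a, ← base_hom a']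
      exact k.wb
    have := congrArg (AlgSp.J S).uliftYonedaEquiv e
    rw [← GrothendieckTopology.uliftYonedaEquiv_naturality] at this
    exact ((congrArg (fun z => B.obj.map k.base.op z) ((Equiv.apply_symm_apply _ _).symm)).trans
      this).trans (Equiv.apply_symm_apply _ _)⟩ :
    (⟨a'.base, a'.sec⟩ : Stk.EltObj B.obj) ⟶ ⟨a.base, a.sec⟩)

lemma torsMor_id (a : (AlgSt.ofSp B).obj) : torsMor (𝟙 (trivTors G a)) = 𝟙 a :=
  Stk.EltObj.hom_ext rfl

lemma torsMor_comp {a'' a' a : (AlgSt.ofSp B).obj} (k : trivTors G a'' ⟶ trivTors G a')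
    (l : trivTors G a' ⟶ trivTors G a) : torsMor (k ≫ l) = torsMor k ≫ torsMor l :=
  Stk.EltObj.hom_ext rfl

/-- The element of the group attached to a morphism of trivial torsors. -/
def gpElt {a' a : (AlgSt.ofSp B).obj} (k : trivTors G a' ⟶ trivTors G a) : trivBase G a' ⟶ G :=
  secOfHom k ≫ fst G (trivBase G a)

lemma secOfHom_triv {a' a : (AlgSt.ofSp B).obj} (k : trivTors G a' ⟶ trivTors G a) :
    secOfHom k = lift (gpElt k) (bHom k.base k.wb) := by
  apply CartesianMonoidalCategory.hom_ext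
  · exact (lift_fst _ _).symm
  · refine Eq.trans ?_ (lift_snd _ _).symm
    exact Over.OverMorphism.ext (secOfHom_π k)

lemma gpElt_id (a : (AlgSt.ofSp B).obj) : gpElt (𝟙 (trivTors G a)) = 1 := by
  have e : secOfHom (𝟙 (trivTors G a)) = unitSec G (trivBase G a) := Category.comp_id _
  rw [gpElt, e, lift_fst]

lemma gpElt_comp {a'' a' a : (AlgSt.ofSp B).obj} (k : trivTors G a'' ⟶ trivTors G a')
    (l : trivTors G a' ⟶ trivTors G a) :
    gpElt (k ≫ l) = gpElt k * (bHom k.base k.wb ≫ gpElt l) := by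
  have e : l.top = (G ◁ secOfHom l) ≫ (spLeftMul G (trivBase G a)).act :=
    (congrArg (fun t => t.top) (homOfSec_secOfHom l)).symm
  have e' : secOfHom (k ≫ l) = secOfHom k ≫ l.top := (Category.assoc _ _ _).symm
  rw [gpElt, e', e, secOfHom_triv k, secOfHom_triv l]
  simp [spLeftMul, comp_mul]
  erw [lift_fst, lift_snd_assoc, lift_fst]

/-- The automorphism of a value of the section attached to an element of the group. -/
abbrev autOf {a : (AlgSt.ofSp B).obj} (g : trivBase G a ⟶ G) : AutO (x.obj a) :=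
  r.ev a (base_hom a) g

lemma autOf_mul {a : (AlgSt.ofSp B).obj} (g g' : trivBase G a ⟶ G) :
    autOf r (g * g') = autOf r g * autOf r g' := r.mul a _ g g'

lemma autOf_one (a : (AlgSt.ofSp B).obj) : autOf r (1 : trivBase G a ⟶ G) = 1 := by
  have e := autOf_mul r (1 : trivBase G a ⟶ G) 1
  rw [_root_.one_mul] at e
  exact mul_left_cancel (a := autOf r (1 : trivBase G a ⟶ G)) (e.symm.trans (_root_.mul_one _).symm)

lemma autOf_nat {a' a : (AlgSt.ofSp B).obj} (k : trivTors G a' ⟶ trivTors G a)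
    (g : trivBase G a ⟶ G) :
    (autOf r (bHom k.base k.wb ≫ g)).hom.1 ≫ x.map (torsMor k) =
      x.map (torsMor k) ≫ (autOf r g).hom.1 := by
  rw [show autOf r (bHom k.base k.wb ≫ g) = res x h (torsMor k) (autOf r g) from
    r.nat (torsMor k) (base_hom a') (base_hom a) k.wb g]
  exact res_spec x h _ _

omit r in
lemma lift_mor {a' a : (AlgSt.ofSp B).obj} (m : a' ⟶ a) : 𝒳.p.IsHomLift m.hom (x.map m) :=
  @BasedFunctor.preserves_isHomLift _ _ _ _ x _ _ _ _ m.hom m
    (IsHomLift.map (AlgSt.ofSp B).p m)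

omit r in
lemma lift_aut {a : (AlgSt.ofSp B).obj} (α : AutO (x.obj a)) :
    𝒳.p.IsHomLift (𝟙 a.base) α.hom.1 :=
  isHomLift_congr_id (x.w_obj a) (autIso_lift α)

/-- The value of the comparison on morphisms of trivial torsors. -/
def cmpMap {a' a : (AlgSt.ofSp B).obj} (k : trivTors G a' ⟶ trivTors G a) : x.obj a' ⟶ x.obj a :=
  (autOf r (gpElt k)⁻¹).hom.1 ≫ x.map (torsMor k)

lemma cmpMap_lift {a' a : (AlgSt.ofSp B).obj} (k : trivTors G a' ⟶ trivTors G a) :
    𝒳.p.IsHomLift (show a'.base ⟶ a.base from k.base) (cmpMap r k) := by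
  have h1 := homLift_comp' (lift_aut (autOf r (gpElt k)⁻¹)) (lift_mor (x := x) (torsMor k))
  rw [Category.id_comp] at h1
  exact h1

/-- The comparison on the trivial torsors. -/
def cmp : HomMap (fun a : (AlgSt.ofSp B).obj => trivTors G a)
    (fun a : (AlgSt.ofSp B).obj => x.obj a) where
  map k := cmpMap r k
  lift {a' a} k V W g hg := by
    obtain rfl : a'.base = V :=
      @IsHomLift.domain_eq _ _ _ _ (AlgSt.SpBG K₀ G).p _ _ _ _ g k hg
    obtain rfl : a.base = W :=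
      @IsHomLift.codomain_eq _ _ _ _ (AlgSt.SpBG K₀ G).p _ _ _ _ g k hg
    have e : g = k.base :=
      (@IsHomLift.fac _ _ _ _ (AlgSt.SpBG K₀ G).p _ _ _ _ g k hg).trans (by simp; rfl)
    exact e ▸ cmpMap_lift r k
  map_id a := by
    rw [cmpMap, gpElt_id, inv_one, autOf_one, autO_one_hom, Category.id_comp, torsMor_id]
    exact x.toFunctor.map_id _
  map_comp {a'' a' a} k l := by
    rw [cmpMap, gpElt_comp, mul_inv_rev, autOf_mul, autO_mul_hom, torsMor_comp,
      show x.map (torsMor k ≫ torsMor l) = x.map (torsMor k) ≫ x.map (torsMor l) from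
        x.toFunctor.map_comp _ _,
      show (bHom k.base k.wb ≫ gpElt l)⁻¹ = bHom k.base k.wb ≫ (gpElt l)⁻¹ from
        (GrpObj.comp_inv _ _).symm]
    simp only [cmpMap, Category.assoc]
    rw [← Category.assoc (autOf r (bHom k.base k.wb ≫ (gpElt l)⁻¹)).hom.1, autOf_nat,
      Category.assoc]

lemma cmp_bijective (π : 𝒳 ⥤ᵇ AlgSt.ofSp B)
    (e : BasedFunctor.comp x π ≅ BasedFunctor.id (AlgSt.ofSp B)) (a' a : (AlgSt.ofSp B).obj) :
    Function.Bijective ((cmp r).map (i := a') (j := a)) := by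
  constructor
  · intro k l hkl
    have hb : k.base = l.base := by
      have h1 := cmpMap_lift r k
      have h2 : 𝒳.p.IsHomLift (show a'.base ⟶ a.base from l.base) (cmpMap r k) :=
        (show cmpMap r k = cmpMap r l from hkl) ▸ cmpMap_lift r l
      exact (@IsHomLift.fac _ _ _ _ 𝒳.p _ _ _ _ (show a'.base ⟶ a.base from k.base) _ h1).trans
        (@IsHomLift.fac _ _ _ _ 𝒳.p _ _ _ _ (show a'.base ⟶ a.base from l.base) _ h2).symm
    have hm : torsMor k = torsMor l := Stk.EltObj.hom_ext hb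
    have hg : gpElt k = gpElt l := by
      apply inv_injective
      apply (r.bij a' (base_hom a')).1
      have e' : cmpMap r k = cmpMap r l := hkl
      rw [cmpMap, cmpMap, ← hm] at e'
      haveI := lift_aut (autOf r (gpElt k)⁻¹)
      haveI := lift_aut (autOf r (gpElt l)⁻¹)
      haveI := lift_mor (x := x) (torsMor k)
      haveI := sc_of_fibGrpd h (torsMor k).hom (x.map (torsMor k))
      exact autO_ext
        (Functor.IsStronglyCartesian.ext 𝒳.p (torsMor k).hom (x.map (torsMor k)) (𝟙 a'.base) e')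
    have hbH : bHom k.base k.wb = bHom l.base l.wb :=
      Over.OverMorphism.ext (congrArg (yon S).map hb)
    have hs : secOfHom k = secOfHom l := by rw [secOfHom_triv k, secOfHom_triv l, hbH, hg]
    rw [← homOfSec_secOfHom k, ← homOfSec_secOfHom l]
    congr 1
  · intro β
    let d : π.obj (x.obj a') ≅ a' := isoApp e a'
    let q : a' ⟶ a := d.inv ≫ π.map β ≫ (isoApp e a).hom
    have hβ : 𝒳.p.map β = 𝒳.p.map (x.map q) := by
      have hx : 𝒳.p.map (x.map q) = eqToHom (x.w_obj a') ≫ q.hom ≫ eqToHom (x.w_obj a).symm :=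
        Functor.congr_hom x.w q
      have h1 : (isoApp e a').inv.hom =
          eqToHom ((baseEq (BasedFunctor.id (AlgSt.ofSp B)) a').trans
            (baseEq (BasedFunctor.comp x π) a').symm) := app_hom_eq e.inv a'
      have h2 : (isoApp e a).hom.hom =
          eqToHom ((baseEq (BasedFunctor.comp x π) a).trans
            (baseEq (BasedFunctor.id (AlgSt.ofSp B)) a).symm) := app_hom_eq e.hom a
      rw [hx]
      simp only [q, d, Stk.EltObj.comp_hom, h1, h2, map_hom_eq]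
      simp
    obtain ⟨α, hα⟩ := exists_aut_of_parallel h (x.map q) β hβ.symm
    obtain ⟨g, hg⟩ := (r.bij a' (base_hom a')).2 α
    have wb : (yon S).map q.hom ≫ (trivTors G a).b = (trivTors G a').b := by
      refine ((congrArg ((yon S).map q.hom ≫ ·) (base_hom a))).trans ?_
      refine Eq.trans ?_ (base_hom a').symm
      exact secYon_comp (X := 𝟙_ (Over B))
        (show (show (AlgSt.ofSp (𝟙_ (Over B)).left).obj from a') ⟶ a from q)
    let k : trivTors G a' ⟶ trivTors G a :=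
      homOfSec (lift g⁻¹ (bHom q.hom wb) : trivBase G a' ⟶ G ⊗ trivBase G a) (toUnit_unique _ _)
    have hk : k.base = q.hom := (yon S).map_injective (by
      change (yon S).map ((yon S).preimage _) = _
      rw [(yon S).map_preimage, ← Over.comp_left]
      exact congrArg CommaMorphism.left (lift_snd g⁻¹ (bHom q.hom wb)))
    have hm : torsMor k = q := Stk.EltObj.hom_ext hk
    have hge : gpElt k = g⁻¹ := by
      rw [gpElt, secOfHom_homOfSec, lift_fst]
    refine ⟨k, ?_⟩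
    change cmpMap r k = β
    rw [cmpMap, hge, inv_inv, hm, autOf, hg]
    exact hα

variable (G) in
lemma pullStable_trivTors : PullStable (fun a : (AlgSt.ofSp B).obj => trivTors G a) := by
  intro a V W g hW
  change a.base = W at hW
  subst hW
  let a' : (AlgSt.ofSp B).obj := (⟨V, B.obj.map g.op a.sec⟩ : Stk.EltObj B.obj)
  let m : a' ⟶ a :=
    (⟨g, rfl⟩ : (⟨V, B.obj.map g.op a.sec⟩ : Stk.EltObj B.obj) ⟶ ⟨a.base, a.sec⟩)
  exact ⟨a', (spQuotMap K₀ G (AlgSt.trivGAction G)).map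
    (show (show (AlgSt.ofSp (𝟙_ (Over B)).left).obj from a') ⟶ a from m),
    IsHomLift.of_fac' _ _ _ rfl rfl (by
      change g = 𝟙 _ ≫ g ≫ 𝟙 _
      simp)⟩

variable (G) in
lemma locCovers_trivTors :
    LocCovers (QuotSh.J K₀ S) (fun a : (AlgSt.ofSp B).obj => trivTors G a) := by
  intro A
  obtain ⟨R₀, hR₀, hs⟩ := A.loc
  obtain ⟨κ, Z, g, rfl⟩ := Presieve.exists_eq_ofArrows R₀
  refine ⟨Sieve.ofArrows _ (fun i : κ => (Over.homMk (g i) rfl : Over.mk (g i ≫ A.base.hom) ⟶ A.base)),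
    H14Quot.mem_J_of_family le_rfl hR₀ (fun i => ⟨_, 𝟙 _, _, ⟨i⟩, Category.id_comp _⟩), ?_⟩
  rintro V f ⟨W, k, _, ⟨j⟩, rfl⟩
  obtain ⟨s, hs₁⟩ := hs (g j) ⟨j⟩
  let c : Over.mk (g j ≫ A.base.hom) ⟶ A.base := Over.homMk (g j)
  let a : (AlgSt.ofSp B).obj :=
    (⟨V, (AlgSp.J S).uliftYonedaEquiv ((yon S).map (k ≫ c) ≫ A.b)⟩ : Stk.EltObj B.obj)
  have ha : pointHom a = (yon S).map (k ≫ c) ≫ A.b := Equiv.symm_apply_apply _ _
  let σ : trivBase G a ⟶ A.P := Over.homMk ((yon S).map k ≫ s) (by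
    change ((yon S).map k ≫ s) ≫ A.P.hom = (trivTors G a).b
    refine Eq.trans ?_ (base_hom a).symm
    rw [ha, Category.assoc, ← Over.w A.π, ← Category.assoc s]
    erw [hs₁]
    rw [CategoryTheory.Functor.map_comp, Category.assoc]
    rfl)
  let m : trivTors G a ⟶ A := homOfSec σ (toUnit_unique _ _)
  have hm : m.base = k ≫ c := (yon S).map_injective (by
    change (yon S).map ((yon S).preimage (((yon S).map k ≫ s) ≫ A.π.left)) = _
    rw [(yon S).map_preimage, Category.assoc, CategoryTheory.Functor.map_comp]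
    exact congrArg ((yon S).map k ≫ ·) hs₁)
  exact ⟨a, m, IsHomLift.of_fac' _ _ _ rfl rfl (by
    change m.base = 𝟙 _ ≫ (k ≫ c) ≫ 𝟙 _
    rw [hm]
    simp)⟩

omit r in
lemma locCovers_section (h' : FibCat.IsFibGrpd 𝒳.p) (π : 𝒳 ⥤ᵇ AlgSt.ofSp B)
    (hπ : Gerb.IsGerbeOver (QuotSh.J K₀ S) π)
    (e : BasedFunctor.comp x π ≅ BasedFunctor.id (AlgSt.ofSp B)) :
    LocCovers (QuotSh.J K₀ S) (fun a : (AlgSt.ofSp B).obj => x.obj a) := by
  intro ξ
  let a₀ : (AlgSt.ofSp B).obj := π.obj ξ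
  have h0 : a₀.base = 𝒳.p.obj ξ := π.w_obj ξ
  let b : π.obj (x.obj a₀) ⟶ π.obj ξ := (isoApp e a₀).hom
  have hb : (AlgSt.ofSp B).p.IsHomLift (𝟙 (𝒳.p.obj ξ)) b :=
    h0 ▸ BasedNatTrans.isHomLift e.hom rfl
  have hη : 𝒳.p.obj (x.obj a₀) = 𝒳.p.obj ξ := (x.w_obj _).trans h0
  refine (locHom_at hπ.2 b hη).mono ?_
  rintro V f ⟨x₀, φ, ψ, hφ, hψ, -⟩
  let t : V ⟶ a₀.base := f ≫ eqToHom h0.symm
  let aV : (AlgSt.ofSp B).obj := (⟨V, B.obj.map t.op a₀.sec⟩ : Stk.EltObj B.obj)
  let n : aV ⟶ a₀ :=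
    (⟨t, rfl⟩ : (⟨V, B.obj.map t.op a₀.sec⟩ : Stk.EltObj B.obj) ⟶ ⟨a₀.base, a₀.sec⟩)
  have hn : 𝒳.p.IsHomLift f (x.map n) := by
    refine @BasedFunctor.preserves_isHomLift _ _ _ _ x _ _ _ _ f _
      (IsHomLift.of_fac' (AlgSt.ofSp B).p f n rfl h0 ?_)
    change t = 𝟙 _ ≫ f ≫ eqToHom h0.symm
    simp [t]
  obtain ⟨i, hi, -⟩ := exists_vertIso h' f (x.map n) φ
  exact ⟨aV, i.hom ≫ ψ, by simpa using homLift_comp' hi hψ⟩

include r in
/-- A gerbe over a space with a section is the classifying stack of the automorphisms. -/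
theorem exists_equiv_spBG (h𝒳 : Stk.IsStack (QuotSh.J K₀ S) 𝒳) (π : 𝒳 ⥤ᵇ AlgSt.ofSp B)
    (hπ : Gerb.IsGerbeOver (QuotSh.J K₀ S) π)
    (e : BasedFunctor.comp x π ≅ BasedFunctor.id (AlgSt.ofSp B)) :
    ∃ E : AlgSt.SpBG K₀ G ⥤ᵇ 𝒳, FibCat.IsEquivOver E ∧
      Nonempty (BasedFunctor.comp E π ≅
        W4stkstmgerbes.spQuotToBase K₀ G (AlgSt.trivGAction G)) := by
  have hBG : Stk.IsStack (QuotSh.J K₀ S) (AlgSt.SpBG K₀ G) := isStack_spQuot
  obtain ⟨E, v, hv, hvn⟩ :=
    exists_extension hBG.1 h𝒳 (cmp r) (pullStable_trivTors G) (locCovers_trivTors G)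
  refine ⟨E, isEquivOver_of_bijective (cmp r) hBG h𝒳 (cmp_bijective r π e) (pullStable_trivTors G)
    (locCovers_trivTors G) (locCovers_section h π hπ e) E v hv hvn, ?_⟩
  let q := W4stkstmgerbes.spQuotToBase K₀ G (AlgSt.trivGAction G)
  have hq : ∀ a : (AlgSt.ofSp B).obj,
      secAt (BasedFunctor.comp E π) (trivTors G a) = secAt q (trivTors G a) := by
    intro a
    have e1 : secAt (BasedFunctor.comp x π) a = secAt (BasedFunctor.id (AlgSt.ofSp B)) a :=
      secAt_eq_of_hom e.hom a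
    have e2 : secAt π (x.obj a) = B.obj.map (eqToHom (x.w_obj a)).op
        (secAt (BasedFunctor.comp x π) a) := by
      rw [secAt, secAt, pmap_comp, eqToHom_trans]
      rfl
    have e3 : B.obj.map (eqToHom (E.w_obj (trivTors G a))).op
        (secAt (BasedFunctor.comp E π) (trivTors G a)) = secAt π (E.obj (trivTors G a)) := by
      rw [secAt, secAt, pmap_comp, eqToHom_trans]
      rfl
    have e4 : 𝒳.p.map (v a) =
        eqToHom ((x.w_obj a).trans (E.w_obj (trivTors G a)).symm) := by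
      rw [@IsHomLift.fac' _ _ _ _ 𝒳.p _ _ _ _ (𝟙 _) (v a) (hv a)]
      simp
    have e5 := secAt_natural π (v a)
    rw [← e3, e4, e2, e1, pmap_comp, eqToHom_trans] at e5
    have e6 : Function.Injective fun s : B.obj.obj (op a.base) =>
        B.obj.map (eqToHom (x.w_obj a)).op s := fun s t hst => by
      have := congrArg (fun z => B.obj.map (eqToHom (x.w_obj a).symm).op z) hst
      simpa [pmap_comp, ← op_comp] using this
    refine (e6 e5).trans ?_
    change B.obj.map (eqToHom _).op a.sec =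
      B.obj.map (eqToHom _).op (W4stkstmgerbes.baseSec K₀ G _ (trivTors G a))
    rw [show W4stkstmgerbes.baseSec K₀ G (AlgSt.trivGAction G) (trivTors G a) = a.sec from
      (congrArg (fun b => (AlgSp.J S).uliftYonedaEquiv b) (base_hom a)).trans
        (Equiv.apply_symm_apply _ _)]
    rfl
  refine ⟨isoOfSec fun A => ?_⟩
  obtain ⟨R, hR, hloc⟩ := locCovers_trivTors G A
  refine ((isSheaf_iff_isSheaf_of_type _ _).1 B.property R hR).isSeparatedFor.ext fun V f hf => ?_
  obtain ⟨a, m, hm⟩ := hloc f hf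
  obtain rfl : a.base = V := @IsHomLift.domain_eq _ _ _ _ (AlgSt.SpBG K₀ G).p _ _ _ _ f m hm
  have ef : f = (AlgSt.SpBG K₀ G).p.map m :=
    (@IsHomLift.fac _ _ _ _ (AlgSt.SpBG K₀ G).p _ _ _ _ f m hm).trans (by simp)
  rw [ef]
  exact (secAt_natural (BasedFunctor.comp E π) m).trans ((hq a).trans (secAt_natural q m).symm)

end Neutral

section Main

variable {x : AlgSt.ofSp B ⥤ᵇ 𝒳} (h : FibCat.IsFibGrpd 𝒳.p)
  (hs : Presheaf.IsSheaf (AlgSp.J S) (autPsh x h))

/-- The evaluation of the sheaf of automorphisms. -/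
def autEval :
    letI := autGrp x h hs
    AutEval x h (autG x h hs) :=
  letI := autGrp x h hs
  { ev := fun a _ hb => evAt hs a hb
    bij := fun a _ hb => evAt_bijective hs a hb
    mul := fun a _ hb => evAt_mul hs a hb
    nat := fun m _ _ hb' hb => evAt_natural hs m hb' hb }

theorem exists_spBG_of_section (h𝒳 : AlgSt.IsAlgStack K₀ 𝒳) (hB : AlgSp.IsAlgSpace B)
    (π : 𝒳 ⥤ᵇ AlgSt.ofSp B) (hπ : Gerb.IsGerbeOver (QuotSh.J K₀ S) π)
    (x : AlgSt.ofSp B ⥤ᵇ 𝒳) (e : BasedFunctor.comp x π ≅ BasedFunctor.id (AlgSt.ofSp B)) :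
    ∃ (G : Over B) (_ : GrpObj G),
      AlgSp.IsAlgSpace G.left ∧ AlgSp.LocP @Flat G.hom ∧
        AlgSp.LocP @LocallyOfFinitePresentation G.hom ∧
        ∃ E : AlgSt.SpBG K₀ G ⥤ᵇ 𝒳, FibCat.IsEquivOver E ∧
          Nonempty (BasedFunctor.comp E π ≅
            W4stkstmgerbes.spQuotToBase K₀ G (AlgSt.trivGAction G)) := by
  have h := h𝒳.isStack.1
  obtain ⟨hs, hA⟩ := isAlgSpaceP_autPsh x h𝒳 hB π e h
  obtain ⟨hfl, hfp⟩ := flat_lfp_autG x h hs h𝒳 hA hB π hπ e
  letI := autGrp x h hs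
  exact ⟨autG x h hs, autGrp x h hs, hA, hfl, hfp,
    exists_equiv_spBG (autEval h hs) h𝒳.isStack π hπ e⟩

end Main

end Groth.Agent.H14SpQuot
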