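import Groth.Agent.H14SpQuot.Stack
import Groth.Agent.H12AlgSp.FppfFamily
import Groth.Agent.H14AlgSt.Descent
import Groth.Agent.H14AlgSt.LocQ2
import Groth.Prelude.Def_AlgSt3

/-!
# Sheaf torsors under a group algebraic space are algebraic spaces
-/

set_option autoImplicit false
set_option backward.isDefEq.respectTransparency false
set_option backward.isDefEq.respectTransparency.types false

universe u

open CategoryTheory CategoryTheory.Limits MonoidalCategory CartesianMonoidalCategory MonObj GrpObj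
open AlgebraicGeometry AlgSt
open AlgSp (yon)

namespace Groth.Agent.H14SpQuot

open H14Quot H14Stk H14Fib

variable {S : Scheme.{u}} {B : AlgSp.Sp S} {G : Over B} [GrpObj G]
  {X : Over B} {aX : AlgSp.GAction G X}

local notation "K₀" => Scheme.fppfPrecoverage

/-- Over a base where it has a section, a torsor is the trivial one. -/
lemma exists_isPullback_of_sec {K : Precoverage Scheme.{u}} (A : SpQuotObj K G aX) {W : Over B}
    (σ : W ⟶ A.P) :
    IsPullback ((G ◁ σ) ≫ A.act.act).left (snd G W).left A.π.left (σ.left ≫ A.π.left) :=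
  ((isPullback_whiskerLeft' σ).paste_horiz A.cart).map (Over.forget B)

/-- A sheaf torsor under a group algebraic space is an algebraic space. -/
theorem isAlgSpace_torsor (hB : AlgSp.IsAlgSpace B) (hG : AlgSp.IsAlgSpace G.left)
    (A : SpQuotObj K₀ G aX) : AlgSp.IsAlgSpace A.P.left := by
  obtain ⟨R, hR, hs⟩ := A.loc
  have hR' := hR
  obtain ⟨κ, Z, g, rfl⟩ := Presieve.exists_eq_ofArrows R
  obtain ⟨hcov, hmor⟩ := (Scheme.ofArrows_mem_precoverage_iff _).1 hR'
  choose i hi using hcov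
  let c : ∀ t : A.base.left, Over.mk (g (i t) ≫ A.base.hom) ⟶ A.base := fun t =>
    Over.homMk (g (i t)) rfl
  have hfc : AlgSp.IsFppfCover (fun t => (yon S).obj (Over.mk (g (i t) ≫ A.base.hom)))
      (fun t => (yon S).map (c t)) := by
    refine ⟨fun t => ⟨(H14AlgSt.locP_yon_iff H12AlgSp.etLocal_flat (c t)).2 (hmor (i t)).1,
      (H14AlgSt.locP_yon_iff H12AlgSp.etLocal_lfp (c t)).2 (hmor (i t)).2⟩, fun x => ?_⟩
    obtain ⟨v, rfl⟩ := (AlgSp.Points.schemeEquiv A.base).surjective x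
    obtain ⟨w, hw⟩ := hi v
    refine ⟨v, AlgSp.Points.ofScheme _ w, ?_⟩
    rw [H14AlgSt.range_map_yon_map]
    exact congrArg (AlgSp.Points.ofScheme A.base) hw
  refine H12AlgSp.isAlgSpace_of_fppf_local (AlgSp.IsAlgSpace.yon_obj _)
    (fun t => AlgSp.IsAlgSpace.yon_obj _) hfc A.π.left fun t => ?_
  obtain ⟨s, hst⟩ := hs (g (i t)) ⟨i t⟩
  let W : Over B := Over.mk ((yon S).map (c t) ≫ A.b)
  let σ : W ⟶ A.P := Over.homMk s (by
    rw [← Over.w A.π, ← Category.assoc, hst]
    rfl)
  have sq := exists_isPullback_of_sec A σ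
  rw [show σ.left ≫ A.π.left = (yon S).map (c t) from hst] at sq
  have h : AlgSp.IsAlgSpace (G ⊗ W).left :=
    H12AlgSp.isAlgSpace_pullback hB.diag hG (AlgSp.IsAlgSpace.yon_obj _) G.hom W.hom
  exact h.of_iso sq.isoPullback

lemma subIncl_full_faithful {𝒳 : BasedCategory.{u + 1, u + 2} (Over S)} {Q : 𝒳.obj → Prop} :
    (subIncl 𝒳 Q).toFunctor.Full ∧ (subIncl 𝒳 Q).toFunctor.Faithful :=
  ⟨inferInstanceAs (ObjectProperty.ι Q).Full, inferInstanceAs (ObjectProperty.ι Q).Faithful⟩

/-- The torsors that are algebraic spaces exhaust the sheaf torsors. -/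
theorem isEquivOver_subIncl (hB : AlgSp.IsAlgSpace B) (hG : AlgSp.IsAlgSpace G.left) :
    FibCat.IsEquivOver
      (subIncl (SpQuotSt K₀ G aX) (fun A => AlgSp.IsAlgSpace A.P.left)) :=
  (isEquivOver_iff _).2 ⟨subIncl_full_faithful,
    fun A => ⟨⟨A, isAlgSpace_torsor hB hG A⟩, Iso.refl _, IsHomLift.id rfl⟩⟩

/-- Torsors that are algebraic spaces form a stack. -/
theorem isStack_algTorsor (hB : AlgSp.IsAlgSpace B) (hG : AlgSp.IsAlgSpace G.left) :
    Stk.IsStack (AlgSp.J S)
      (fullSub (SpQuotSt K₀ G aX) (fun A => AlgSp.IsAlgSpace A.P.left)) :=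
  (isStack_iff _ (isEquivOver_subIncl hB hG)).2 isStack_spQuot

end Groth.Agent.H14SpQuot
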