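import Groth.Agent.H14SpQuot.TorsorProp
import Groth.Agent.H14SpQuot.Stack
import Groth.Agent.H14AlgSt.ChartDiag
import Groth.Agent.H14AlgSt.EtaleCriterion
import Groth.Agent.H14Artin.SmoothChart
import Groth.Agent.H14Small.SpQuot
import Groth.Agent.S10530
import Groth.Agent.S10527

/-!
# The quotient of a space by a flat, locally finitely presented group space is algebraic
-/

set_option autoImplicit false
set_option backward.isDefEq.respectTransparency false
set_option backward.isDefEq.respectTransparency.types false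

universe u

open CategoryTheory CategoryTheory.Limits AlgebraicGeometry AlgSt
open AlgSp (yon)

noncomputable section

namespace Groth.Agent.H14SpQuot

open H14Fib H14AlgSt

variable {S : Scheme.{u}} {B : AlgSp.Sp S} {G : Over B} [GrpObj G]
  {X : Over B} {aX : AlgSp.GAction G X}

local notation "K₀" => Scheme.fppfPrecoverage

/-- The properties of the canonical functor to the quotient. -/
theorem repWith_spQuotMap_fppf (hB : AlgSp.IsAlgSpace B) (hG : AlgSp.IsAlgSpace G.left)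
    (hf : AlgSp.LocP (@Flat ⊓ @LocallyOfFinitePresentation) G.hom) :
    RepByAlgSpWith (AlgSp.LocP @Flat) (spQuotMap K₀ G aX) ∧
      RepByAlgSpWith (AlgSp.LocP @LocallyOfFinitePresentation) (spQuotMap K₀ G aX) ∧
      RepByAlgSpWith AlgSp.IsSurjectiveMor (spQuotMap K₀ G aX) :=
  ⟨repWith_spQuotMap hB hG (torsor_prop hB hG (baseStable_locP H12AlgSp.etLocal_flat)
      (localFppf_of_fpqc (S10530.result S)) (H12AlgSp.locP_mono (fun _ _ _ h => h.1) hf)),
    repWith_spQuotMap hB hG (torsor_prop hB hG (baseStable_locP H12AlgSp.etLocal_lfp)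
      (localFppf_of_fpqc (S10527.result S)) (H12AlgSp.locP_mono (fun _ _ _ h => h.2) hf)),
    repWith_spQuotMap hB hG torsor_surjective⟩

/-- A scheme chart of a category from a chart by a space. -/
theorem exists_scheme_chart {𝒳 : AlgSt.Cat S} {F : AlgSp.Sp S} (hF : AlgSp.IsAlgSpace F)
    (q : ofSp F ⥤ᵇ 𝒳) (h1 : RepByAlgSpWith (AlgSp.LocP @Flat) q)
    (h2 : RepByAlgSpWith (AlgSp.LocP @LocallyOfFinitePresentation) q)
    (h3 : RepByAlgSpWith AlgSp.IsSurjectiveMor q) :
    ∃ (U : Over S) (x : FibCat.overCat U ⥤ᵇ 𝒳),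
      RepByAlgSpWith AlgSp.IsSurjectiveMor x ∧ RepByAlgSpWith (AlgSp.LocP @Flat) x ∧
      RepByAlgSpWith (AlgSp.LocP @LocallyOfFinitePresentation) x := by
  obtain ⟨U, p, hp, hps⟩ := hF.atlas
  have hU := fibGrpd_overCat U
  have hsrc : FibCat.IsFibGrpd (ofSp ((yon S).obj U)).p :=
    (isFibSetoid_of_rep (repByAlgSp_ofSp ⟨_, AlgSp.IsAlgSpace.yon_obj U⟩)).1
  have hXg : FibCat.IsFibGrpd (ofSp F).p :=
    (isFibSetoid_of_rep (repByAlgSp_ofSp ⟨F, hF⟩)).1
  have he : RepByAlgSpWith (AlgSp.LocP @Etale) (ofSpMap p) :=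
    repWith_locP_of_repWith H12AlgSp.etLocal_etale p hp
  refine ⟨U, BasedFunctor.comp (ofOverCat U) (BasedFunctor.comp (ofSpMap p) q),
    (repWith_equiv_comp_iff (ofOverCat_isEquivOver U)).1 (repWith_surjective_comp hsrc hXg
      (repWith_surjective_of_repWith p hps) h3),
    (repWith_equiv_comp_iff (ofOverCat_isEquivOver U)).1 (repWith_locP_comp H12AlgSp.etLocal_flat
      hsrc hXg (repWith_mono (fun a _ _ h => H12AlgSp.locP_mono (fun _ _ _ h' => ?_) h) he) h1),
    (repWith_equiv_comp_iff (ofOverCat_isEquivOver U)).1 (repWith_locP_comp H12AlgSp.etLocal_lfp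
      hsrc hXg (repWith_mono (fun a _ _ h => H12AlgSp.locP_mono (fun _ _ _ h' => ?_) h) he) h2)⟩
  all_goals
    have := h'
    infer_instance

/-- The diagonal is invariant under an equivalence with a small model. -/
theorem repWith_diag_of_model {P : MorphismProperty (AlgSp.Sp S)}
    {𝒳' : AlgSt.Cat S} {𝒳 : BasedCategory.{u + 1, u + 2} (Over S)} {e : 𝒳' ⥤ᵇ 𝒳}
    (he : FibCat.IsEquivOver e) (h : RepByAlgSpWith P (FibCat.diag (FibCat.toSelf 𝒳'))) :
    RepByAlgSpWith P (FibCat.diag (FibCat.toSelf 𝒳)) := by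
  obtain ⟨⟨_, _⟩, hs⟩ := (isEquivOver_iff e).1 he
  have := H14FibU.basedId_full (FibCat.selfOver (Over S))
  have := H14FibU.basedId_faithful (FibCat.selfOver (Over S))
  let i : BasedFunctor.comp (FibCat.toSelf 𝒳') (BasedFunctor.id (FibCat.selfOver (Over S))) ≅
      BasedFunctor.comp e (FibCat.toSelf 𝒳) := eqToIso (comp_toSelfU e).symm
  let b := H14FibU.fpMap e e (BasedFunctor.id (FibCat.selfOver (Over S))) i i
  have hb : FibCat.IsEquivOver b := H14FibU.fpMap_isEquivOver _ _ _ _ _ hs hs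
  refine (H14Small.repWith_transfer he hb
    (H14Stk.mkIso (fun x => fpIsoMk (Iso.refl _) (Iso.refl _) ?_) ?_ ?_)).1 h
  · change 𝒳.p.map (𝟙 (e.obj x)) ≫ 𝟙 (𝒳.p.obj (e.obj x)) =
      ((H14FibU.appIso i x).inv ≫ 𝟙 _ ≫ (H14FibU.appIso i x).hom) ≫ 𝒳.p.map (𝟙 (e.obj x))
    have h : (H14FibU.appIso i x).inv ≫ (H14FibU.appIso i x).hom = 𝟙 _ :=
      (H14FibU.appIso i x).inv_hom_id
    erw [𝒳.p.map_id, Category.comp_id, Category.id_comp, h]
    rfl
  · intro a b f
    exact fp_hom_ext ((Category.comp_id _).trans (Category.id_comp _).symm)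
      ((Category.comp_id _).trans (Category.id_comp _).symm)
  · exact fun a => (fp_isHomLift_iff _ _).2 (IsHomLift.id (e.w_obj a))

theorem isAlgStack_spQuot (hB : AlgSp.IsAlgSpace B) (hG : AlgSp.IsAlgSpace G.left)
    (hf : AlgSp.LocP (@Flat ⊓ @LocallyOfFinitePresentation) G.hom)
    (hX : AlgSp.IsAlgSpace X.left) :
    AlgSt.IsAlgStack K₀ (SpQuotSt K₀ G aX) := by
  obtain ⟨g1, g2, g3⟩ := repWith_spQuotMap_fppf (aX := aX) hB hG hf
  obtain ⟨𝒳', e, he⟩ := H14Small.exists_small_spQuot (aX := aX) hB hG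
  obtain ⟨e', -, ⟨j⟩⟩ := id he
  let q := BasedFunctor.comp (spQuotMap K₀ G aX) e'
  let k : BasedFunctor.comp q e ≅
      BasedFunctor.comp (BasedFunctor.id (ofSp X.left)) (spQuotMap K₀ G aX) :=
    (Stk.restr (spQuotMap K₀ G aX) _).mapIso j
  have hq : ∀ {P : MorphismProperty (AlgSp.Sp S)},
      RepByAlgSpWith P (spQuotMap K₀ G aX) → RepByAlgSpWith P q := fun h =>
    (H14Small.repWith_transfer (H14Fib.isEquivOver_id _) he k).2 h
  have hst : Stk.IsStack (AlgSp.J S) 𝒳' := (H14Stk.isStack_iff (AlgSp.J S) he).2 isStack_spQuot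
  obtain ⟨U, x, hxs, hxf, hxp⟩ := exists_scheme_chart hX q (hq g1) (hq g2) (hq g3)
  have hΔ := repByAlgSp1_diag_of_chart hst (W := ⟨X.left, hX⟩) q (hq g1) (hq g2) (hq g3)
  obtain ⟨V, z, hz, hzs⟩ := H14Artin.hasAtlas_smooth_of_fppf_chart hst x hxs hxf hxp
  have hz' : ∀ {P : MorphismProperty (AlgSp.Sp S)},
      RepByAlgSpWith P z → RepByAlgSpWith P (BasedFunctor.comp z e) := fun h =>
    (H14Small.repWith_transfer (H14Fib.isEquivOver_id (FibCat.overCat V)) he (Iso.refl _)).1 h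
  refine ⟨isStack_spQuot, ?_, V, BasedFunctor.comp z e, hz' hz, hz' hzs⟩
  exact fun T y => RepData.rep _ (repWith_diag_of_model he (with_top_of_repByAlgSp1 hΔ) T y)

end Groth.Agent.H14SpQuot
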