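import Groth.Agent.H14AlgSt.Graph
import Groth.Agent.H14AlgSt.LocQ
import Groth.Agent.H14AlgSt.PointsSpace
import Groth.Agent.H14AlgSt.Props
import Groth.Agent.H14Gerbe.Diag
import Groth.Agent.H14Stk.Gerbe2
import Groth.Prelude.Def_StGerb
import Groth.Prelude.Def_AlgSt6

/-!
# The sheaf of automorphisms of a section
-/

set_option autoImplicit false
set_option backward.isDefEq.respectTransparency false
set_option backward.isDefEq.respectTransparency.types false

universe u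

open CategoryTheory CategoryTheory.Limits Opposite AlgebraicGeometry
open MonoidalCategory CartesianMonoidalCategory MonObj
open AlgSp (yon)

noncomputable section

namespace Groth.Agent.H14SpQuot

open H14Fib H14Stk H14AlgSt Gerb

variable {S : Scheme.{u}} {F : AlgSp.Sp S} {𝒳 : AlgSt.Cat S}

local notation "K₀" => Scheme.fppfPrecoverage
local notation "LP" => AlgSp.LocP

section Res

variable (x : AlgSt.ofSp F ⥤ᵇ 𝒳) (h : FibCat.IsFibGrpd 𝒳.p)

lemma map_autO {a : 𝒳.obj} (α : AutO a) : 𝒳.p.map α.hom.1 = 𝟙 _ := by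
  rw [@IsHomLift.fac' _ _ _ _ 𝒳.p _ _ _ _ (𝟙 _) α.hom.1 α.hom.2]
  simp

/-- Restriction of an automorphism along a morphism of points. -/
def res {o' o : (AlgSt.ofSp F).obj} (f : o' ⟶ o) (α : AutO (x.obj o)) : AutO (x.obj o') :=
  (exists_aut_of_parallel h (x.map f) (x.map f ≫ α.hom.1)
    (by rw [CategoryTheory.Functor.map_comp, map_autO]; exact (Category.comp_id _).symm)).choose

lemma res_spec {o' o : (AlgSt.ofSp F).obj} (f : o' ⟶ o) (α : AutO (x.obj o)) :
    (res x h f α).hom.1 ≫ x.map f = x.map f ≫ α.hom.1 :=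
  (exists_aut_of_parallel h (x.map f) (x.map f ≫ α.hom.1)
    (by rw [CategoryTheory.Functor.map_comp, map_autO]; exact (Category.comp_id _).symm)).choose_spec

lemma res_unique {o' o : (AlgSt.ofSp F).obj} (f : o' ⟶ o) (α : AutO (x.obj o))
    (β : AutO (x.obj o')) (e : β.hom.1 ≫ x.map f = x.map f ≫ α.hom.1) : β = res x h f α := by
  have hc := sc_of_fibGrpd h (𝒳.p.map (x.map f)) (x.map f)
  haveI := autIso_lift β
  haveI := autIso_lift (res x h f α)
  exact autO_ext (Functor.IsStronglyCartesian.ext 𝒳.p (𝒳.p.map (x.map f)) (x.map f)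
    (𝟙 (𝒳.p.obj (x.obj o'))) (e.trans (res_spec x h f α).symm))

lemma res_id {o : (AlgSt.ofSp F).obj} (α : AutO (x.obj o)) : res x h (𝟙 o) α = α :=
  (res_unique x h (𝟙 o) α α (by
    rw [show x.map (𝟙 o) = 𝟙 (x.obj o) from x.toFunctor.map_id o, Category.comp_id,
      Category.id_comp])).symm

lemma res_comp {o'' o' o : (AlgSt.ofSp F).obj} (g : o'' ⟶ o') (f : o' ⟶ o)
    (α : AutO (x.obj o)) : res x h g (res x h f α) = res x h (g ≫ f) α :=
  res_unique x h (g ≫ f) α _ (by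
    rw [show x.map (g ≫ f) = x.map g ≫ x.map f from x.toFunctor.map_comp g f, ← Category.assoc,
      res_spec, Category.assoc, res_spec, Category.assoc])

lemma res_one {o' o : (AlgSt.ofSp F).obj} (f : o' ⟶ o) : res x h f 1 = 1 :=
  (res_unique x h f 1 1 (by rw [autO_one_hom, autO_one_hom, Category.comp_id, Category.id_comp])).symm

lemma res_mul {o' o : (AlgSt.ofSp F).obj} (f : o' ⟶ o) (α β : AutO (x.obj o)) :
    res x h f (α * β) = res x h f α * res x h f β :=
  (res_unique x h f _ _ (by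
    rw [autO_mul_hom, autO_mul_hom, Category.assoc, res_spec, ← Category.assoc, res_spec,
      Category.assoc])).symm

/-- Restriction of automorphisms, as a homomorphism. -/
def resHom {o' o : (AlgSt.ofSp F).obj} (f : o' ⟶ o) : AutO (x.obj o) →* AutO (x.obj o') where
  toFun := res x h f
  map_one' := res_one x h f
  map_mul' := res_mul x h f

lemma res_congr {o' o : (AlgSt.ofSp F).obj} {f g : o' ⟶ o} (e : f.hom = g.hom)
    (α : AutO (x.obj o)) : res x h f α = res x h g α := by rw [Stk.EltObj.hom_ext e]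

end Res

/-- A point of a sheaf. -/
abbrev elt (T : (Over S)ᵒᵖ) (s : F.obj.obj T) : (AlgSt.ofSp F).obj :=
  (⟨T.unop, s⟩ : Stk.EltObj F.obj)

section Psh

variable (x : AlgSt.ofSp F ⥤ᵇ 𝒳) (h : FibCat.IsFibGrpd 𝒳.p)

lemma isHomLift_congr_id {a b : 𝒳.obj} {φ : a ⟶ b} {V W : Over S} (hVW : V = W)
    (hφ : 𝒳.p.IsHomLift (𝟙 V) φ) : 𝒳.p.IsHomLift (𝟙 W) φ := hVW ▸ hφ

lemma sigma_res_ext {T : (Over S)ᵒᵖ} {o : (AlgSt.ofSp F).obj} {s₁ s₂ : F.obj.obj T} (e : s₁ = s₂)
    (f₁ : elt T s₁ ⟶ o) (f₂ : elt T s₂ ⟶ o) (hf : f₁.hom = f₂.hom) (α : AutO (x.obj o)) :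
    (⟨s₁, res x h f₁ α⟩ : Σ s, AutO (x.obj (elt T s))) = ⟨s₂, res x h f₂ α⟩ := by
  subst e
  rw [res_congr x h hf]

/-- The morphism of points of a restriction. -/
abbrev eltMap {T T' : (Over S)ᵒᵖ} (g : T ⟶ T') (s : F.obj.obj T) :
    elt T' (F.obj.map g s) ⟶ elt T s :=
  (⟨g.unop, rfl⟩ : (⟨T'.unop, F.obj.map g s⟩ : Stk.EltObj F.obj) ⟶ ⟨T.unop, s⟩)

/-- The automorphisms of the values of a section. -/
def autPsh : AlgSp.PSp S where
  obj T := Σ s : F.obj.obj T, AutO (x.obj (elt T s))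
  map g := ↾ fun a => ⟨F.obj.map g a.1, res x h (eltMap g a.1) a.2⟩
  map_id T := by
    apply ConcreteCategory.hom_ext
    intro a
    refine (sigma_res_ext x h (o := elt T a.1) (s₂ := a.1)
      (show F.obj.map (𝟙 T) a.1 = a.1 by simp) (eltMap (𝟙 T) a.1) (𝟙 _) rfl a.2).trans ?_
    rw [res_id]
    rfl
  map_comp {T T' T''} g g' := by
    apply ConcreteCategory.hom_ext
    intro a
    refine (sigma_res_ext x h (ConcreteCategory.congr_hom (F.obj.map_comp g g') a.1)
      (eltMap (g ≫ g') a.1) (eltMap g' (F.obj.map g a.1) ≫ eltMap g a.1) rfl a.2).trans ?_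
    exact congrArg (Sigma.mk _) (res_comp x h _ _ _).symm

/-- The projection to the sheaf. -/
def autFst : autPsh x h ⟶ F.obj where
  app T := ↾ fun a => a.1
  naturality T T' g := by
    ext a
    rfl

/-- The automorphism carried by a point. -/
def autPt (o : (Stk.ofPsh (autPsh x h)).obj) :
    AutO (x.obj ((Stk.ofPshMap (autFst x h)).obj o)) := o.sec.2

lemma autPt_map {o' o : (Stk.ofPsh (autPsh x h)).obj} (m : o' ⟶ o) :
    autPt x h o' = res x h ((Stk.ofPshMap (autFst x h)).map m) (autPt x h o) := by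
  have key : ∀ (T' : Over S) (g : T' ⟶ o.base) (a' : (autPsh x h).obj (op T'))
      (hg : (autPsh x h).map g.op o.sec = a'),
      autPt x h (⟨T', a'⟩ : Stk.EltObj (autPsh x h)) =
        res x h ((Stk.ofPshMap (autFst x h)).map
          (⟨g, hg⟩ : (⟨T', a'⟩ : Stk.EltObj (autPsh x h)) ⟶ o)) (autPt x h o) := by
    intro T' g a' hg
    subst hg
    rfl
  exact key o'.base m.hom o'.sec m.map_sec

/-- The universal automorphism. -/
def univAut : BasedFunctor.comp (Stk.ofPshMap (autFst x h)) x ≅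
    BasedFunctor.comp (Stk.ofPshMap (autFst x h)) x :=
  mkIso (fun o => autIso (autPt x h o))
    (fun {o' o} m => by
      have e := res_spec x h ((Stk.ofPshMap (autFst x h)).map m) (autPt x h o)
      rw [← autPt_map] at e
      exact e.symm)
    (fun o => by
      exact isHomLift_congr_id (x.w_obj _) (autIso_lift (autPt x h o)))

/-- The comparison with the fibre product. -/
abbrev autToFp : Stk.ofPsh (autPsh x h) ⥤ᵇ FibCat.fp x x :=
  FibCat.fpLift (Stk.ofPshMap (autFst x h)) (Stk.ofPshMap (autFst x h)) (univAut x h)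

variable {x h} in
lemma fp_snd_map {z z' : (FibCat.fp x x).obj} (m : z ⟶ z') :
    (show (z.obj.snd : Stk.EltObj F.obj) ⟶ z'.obj.snd from m.hom.snd).hom =
      eqToHom (fp_snd_obj z) ≫ (show (z.obj.fst : Stk.EltObj F.obj) ⟶ z'.obj.fst from m.hom.fst).hom ≫
        eqToHom (fp_snd_obj z').symm := by
  have : (AlgSt.ofSp F).p.IsHomLift ((FibCat.fp x x).p.map m) m.hom.snd :=
    FibCat.fp_isHomLift_snd x x m
  exact IsHomLift.fac' (AlgSt.ofSp F).p ((FibCat.fp x x).p.map m) m.hom.snd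

lemma autToFp_isEquivOver (π : 𝒳 ⥤ᵇ AlgSt.ofSp F)
    (e : BasedFunctor.comp x π ≅ BasedFunctor.id (AlgSt.ofSp F)) :
    FibCat.IsEquivOver (autToFp x h) := by
  refine (isEquivOver_iff _).2 ⟨⟨⟨fun {o' o} m => ?_⟩, ⟨fun {o' o} m n hmn => ?_⟩⟩, fun z => ?_⟩
  · let f₁ : (Stk.ofPshMap (autFst x h)).obj o' ⟶ (Stk.ofPshMap (autFst x h)).obj o := m.hom.fst
    let f₂ : (Stk.ofPshMap (autFst x h)).obj o' ⟶ (Stk.ofPshMap (autFst x h)).obj o := m.hom.snd
    have hf : f₂ = f₁ := Stk.EltObj.hom_ext ((fp_snd_map m).trans (by simp; rfl))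
    have hw : x.map f₁ ≫ (autPt x h o).hom.1 = (autPt x h o').hom.1 ≫ x.map f₂ := m.hom.w
    rw [hf] at hw
    have hr := res_unique x h f₁ _ _ hw.symm
    have hsec : (autPsh x h).map f₁.hom.op o.sec = o'.sec :=
      (sigma_res_ext x h f₁.map_sec (eltMap f₁.hom.op o.sec.1) f₁ rfl o.sec.2).trans
        (congrArg (Sigma.mk o'.sec.1) hr.symm)
    exact ⟨⟨f₁.hom, hsec⟩, fp_hom_ext (Stk.EltObj.hom_ext rfl) (Stk.EltObj.hom_ext
      (congrArg Stk.EltObj.Hom.hom hf).symm)⟩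
  · exact Stk.EltObj.hom_ext
      (congrArg (fun φ : (autToFp x h).obj o' ⟶ (autToFp x h).obj o => φ.hom.fst.hom) hmn)
  · let t : (AlgSt.ofSp F).obj := z.obj.fst
    let t' : (AlgSt.ofSp F).obj := z.obj.snd
    have hl : t'.base = t.base := fp_snd_obj z
    have hθ : 𝒳.p.IsHomLift (𝟙 t.base) z.obj.iso.hom := z.property
    let q : t ≅ t' :=
      (isoApp e t).symm ≪≫ π.toFunctor.mapIso z.obj.iso ≪≫ isoApp e t'
    have hq : (AlgSt.ofSp F).p.IsHomLift (𝟙 t.base) q.hom := by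
      have h1 : (AlgSt.ofSp F).p.IsHomLift (𝟙 t.base) ((isoApp e t).inv) :=
        BasedNatTrans.isHomLift e.inv rfl
      have h2 : (AlgSt.ofSp F).p.IsHomLift (𝟙 t.base) (π.map z.obj.iso.hom) :=
        BasedFunctor.preserves_isHomLift π _ _
      have h3 : (AlgSt.ofSp F).p.IsHomLift (𝟙 t.base) ((isoApp e t').hom) :=
        BasedNatTrans.isHomLift e.hom hl
      exact homLift_id_comp h1 (homLift_id_comp h2 h3)
    have hqi : (AlgSt.ofSp F).p.IsHomLift (𝟙 t.base) q.inv :=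
      IsHomLift.lift_id_inv (AlgSt.ofSp F).p t.base q
    have hw : 𝒳.p.IsHomLift (𝟙 t.base) (x.map q.inv) := BasedFunctor.preserves_isHomLift x _ _
    let φ : AutO (x.obj t) := autMk (z.obj.iso ≪≫ x.toFunctor.mapIso q.symm) (by
      have := homLift_id_comp hθ hw
      exact isHomLift_congr_id (x.w_obj t).symm this)
    let s : (Stk.ofPsh (autPsh x h)).obj :=
      (⟨t.base, ⟨t.sec, φ⟩⟩ : Stk.EltObj (autPsh x h))
    refine ⟨s, fpIsoMk (Iso.refl t) q ?_, (fp_isHomLift_iff _ _).2 (IsHomLift.id rfl)⟩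
    change x.map (𝟙 t) ≫ z.obj.iso.hom = (z.obj.iso.hom ≫ x.map q.inv) ≫ x.map q.hom
    rw [show x.map (𝟙 t) = 𝟙 (x.obj t) from x.toFunctor.map_id t, Category.id_comp, Category.assoc,
      ← x.toFunctor.map_comp, q.inv_hom_id, x.toFunctor.map_id, Category.comp_id]

theorem isAlgSpaceP_autPsh (h𝒳 : AlgSt.IsAlgStack K₀ 𝒳) (hF : AlgSp.IsAlgSpace F)
    (π : 𝒳 ⥤ᵇ AlgSt.ofSp F) (e : BasedFunctor.comp x π ≅ BasedFunctor.id (AlgSt.ofSp F))
    (h : FibCat.IsFibGrpd 𝒳.p) : AlgSp.IsAlgSpaceP (autPsh x h) :=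
  repByAlgSp_ofPsh_iff.1 (repByAlgSp_of_equiv' (autToFp_isEquivOver x h π e)
    (repByAlgSp_fp_of_diag_toSelf h h𝒳.diag x x (repByAlgSp_ofSp ⟨F, hF⟩) (repByAlgSp_ofSp ⟨F, hF⟩)))

end Psh

section Grp

variable (x : AlgSt.ofSp F ⥤ᵇ 𝒳) (h : FibCat.IsFibGrpd 𝒳.p)
  (hs : Presheaf.IsSheaf (AlgSp.J S) (autPsh x h))

/-- The sheaf of automorphisms of a section, over the sheaf. -/
def autG : Over F :=
  Over.mk (ObjectProperty.homMk (autFst x h) : (⟨autPsh x h, hs⟩ : AlgSp.Sp S) ⟶ F)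

/-- The families of automorphisms over a sheaf. -/
def fam (Y : Over F) :
    Subgroup (∀ o : (AlgSt.ofSp Y.left).obj, AutO (x.obj ((AlgSt.ofSpMap Y.hom).obj o))) where
  carrier := {f | ∀ ⦃o' o : (AlgSt.ofSp Y.left).obj⦄ (m : o' ⟶ o),
    res x h ((AlgSt.ofSpMap Y.hom).map m) (f o) = f o'}
  one_mem' := fun _ _ _ => res_one x h _
  mul_mem' := fun {f g} hf hg _ _ m => by
    simp only [Pi.mul_apply, res_mul, hf m, hg m]
  inv_mem' := fun {f} hf _ _ m => by
    simp only [Pi.inv_apply]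
    exact ((resHom x h _).map_inv _).trans (congrArg _ (hf m))

variable {x h}

/-- The comparison of the two images of a point. -/
def castPt {Y' Y : Over F} (φ : Y' ⟶ Y) (o : (AlgSt.ofSp Y'.left).obj) :
    (AlgSt.ofSpMap Y'.hom).obj o ⟶ (AlgSt.ofSpMap Y.hom).obj ((AlgSt.ofSpMap φ.left).obj o) :=
  (⟨𝟙 o.base, by
    change F.obj.map (𝟙 (op o.base)) (Y.hom.hom.app _ (φ.left.hom.app _ o.sec)) = Y'.hom.hom.app _ o.sec
    rw [FunctorToTypes.map_id_apply]
    exact ConcreteCategory.congr_hom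
      (congrArg (fun k : Y'.left ⟶ F => k.hom.app (op o.base)) (Over.w φ)) o.sec⟩ :
    (⟨o.base, Y'.hom.hom.app _ o.sec⟩ : Stk.EltObj F.obj) ⟶
      ⟨o.base, Y.hom.hom.app _ (φ.left.hom.app _ o.sec)⟩)

/-- Pull back of families. -/
def famMap {Y' Y : Over F} (φ : Y' ⟶ Y) : fam x h Y →* fam x h Y' where
  toFun f := ⟨fun o => res x h (castPt φ o) (f.1 _), fun o' o m => by
    change res x h _ (res x h (castPt φ o) _) = res x h (castPt φ o') _
    rw [res_comp, ← f.2 ((AlgSt.ofSpMap φ.left).map m), res_comp]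
    refine res_congr x h ?_ _
    change m.hom ≫ 𝟙 o.base = 𝟙 o'.base ≫ m.hom
    rw [Category.comp_id, Category.id_comp]⟩
  map_one' := Subtype.ext (funext fun o => res_one x h _)
  map_mul' f g := Subtype.ext (funext fun o => res_mul x h _ _ _)

lemma famMap_id_apply (Y : Over F) (f : fam x h Y) : famMap (𝟙 Y) f = f := by
  refine Subtype.ext (funext fun o => ?_)
  exact (res_congr x h (f := castPt (𝟙 Y) o) (g := 𝟙 ((AlgSt.ofSpMap Y.hom).obj o)) rfl (f.1 o)).trans
    (res_id x h _)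

lemma famMap_comp_apply {Y'' Y' Y : Over F} (φ : Y'' ⟶ Y') (ψ : Y' ⟶ Y) (f : fam x h Y) :
    famMap (φ ≫ ψ) f = famMap φ (famMap ψ f) := by
  refine Subtype.ext (funext fun o => ?_)
  change _ = res x h (castPt φ o) (res x h (castPt ψ ((AlgSt.ofSpMap φ.left).obj o)) _)
  rw [res_comp]
  exact res_congr x h (Category.id_comp _).symm _

variable (x h) in
/-- The presheaf of groups of families. -/
def famFunctor : (Over F)ᵒᵖ ⥤ GrpCat.{u + 1} where
  obj Y := GrpCat.of (fam x h Y.unop)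
  map φ := GrpCat.ofHom (famMap φ.unop)
  map_id Y := GrpCat.hom_ext (MonoidHom.ext fun f => famMap_id_apply _ f)
  map_comp φ ψ := GrpCat.hom_ext (MonoidHom.ext fun f => famMap_comp_apply ψ.unop φ.unop f)

variable (x h) in
/-- The universal family. -/
def univFam : fam x h (autG x h hs) := ⟨autPt x h, fun _ _ m => (autPt_map x h m).symm⟩

/-- The morphism defined by a family. -/
def ofFam {Y : Over F} (f : fam x h Y) : Y ⟶ autG x h hs :=
  Over.homMk (ObjectProperty.homMk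
    { app := fun T => ↾ fun y =>
        ⟨Y.hom.hom.app T y, f.1 (⟨T.unop, y⟩ : Stk.EltObj Y.left.obj)⟩
      naturality := fun T T' g => by
        ext y
        let m : (⟨T'.unop, Y.left.obj.map g y⟩ : Stk.EltObj Y.left.obj) ⟶ ⟨T.unop, y⟩ :=
          ⟨g.unop, rfl⟩
        change (⟨Y.hom.hom.app T' (Y.left.obj.map g y),
            f.1 (⟨T'.unop, Y.left.obj.map g y⟩ : Stk.EltObj Y.left.obj)⟩ :
              Σ s, AutO (x.obj (elt T' s))) =
          ⟨F.obj.map g (Y.hom.hom.app T y), res x h (eltMap g (Y.hom.hom.app T y))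
            (f.1 (⟨T.unop, y⟩ : Stk.EltObj Y.left.obj))⟩
        rw [← f.2 m]
        refine sigma_res_ext x h (NatTrans.naturality_apply Y.hom.hom g y) _ _ ?_ _
        rfl }) (by
    apply Sheaf.hom_ext
    ext T y
    rfl)

/-- Morphisms to the sheaf of automorphisms are families. -/
def famEquiv (Y : Over F) : (Y ⟶ autG x h hs) ≃ fam x h Y where
  toFun φ := famMap φ (univFam x h hs)
  invFun := ofFam hs
  left_inv φ := by
    refine Over.OverMorphism.ext ?_
    apply Sheaf.hom_ext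
    ext T y
    let o : (AlgSt.ofSp Y.left).obj := (⟨T.unop, y⟩ : Stk.EltObj Y.left.obj)
    change (⟨Y.hom.hom.app T y, res x h (castPt φ o) (φ.left.hom.app T y).2⟩ :
      Σ s, AutO (x.obj (elt T s))) = φ.left.hom.app T y
    refine (sigma_res_ext x h ?_ (castPt φ o) (𝟙 (elt T (φ.left.hom.app T y).1)) rfl _).trans ?_
    · exact (ConcreteCategory.congr_hom
        (congrArg (fun k : Y.left ⟶ F => k.hom.app T) (Over.w φ)) y).symm
    · rw [res_id]
      rfl
  right_inv f := by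
    refine Subtype.ext (funext fun o => ?_)
    change res x h (castPt (ofFam hs f) o) (f.1 o) = f.1 o
    exact (res_congr x h (g := 𝟙 _) rfl _).trans (res_id x h _)

variable (x h) in
/-- The sheaf of automorphisms represents the families. -/
def autRepBy : (famFunctor x h ⋙ forget GrpCat.{u + 1}).RepresentableBy (autG x h hs) where
  homEquiv {Y} := famEquiv hs Y
  homEquiv_comp φ ψ := famMap_comp_apply φ ψ _

variable (x h) in
/-- The group structure of the sheaf of automorphisms. -/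
@[reducible] def autGrp : GrpObj (autG x h hs) :=
  GrpObj.ofRepresentableBy _ _ (autRepBy x h hs)

lemma famEquiv_mul {Y : Over F} (φ ψ : Y ⟶ autG x h hs) :
    letI := autGrp x h hs
    famEquiv hs Y (φ * ψ) = famEquiv hs Y φ * famEquiv hs Y ψ := by
  letI := autGrp x h hs
  have e : famEquiv hs (autG x h hs ⊗ autG x h hs) (μ[autG x h hs] :) =
      famEquiv hs _ (fst _ _) * famEquiv hs _ (snd _ _) := Equiv.apply_symm_apply _ _
  have hc : ∀ {Y' Y : Over F} (a : Y' ⟶ Y) (b : Y ⟶ autG x h hs),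
      famEquiv hs Y' (a ≫ b) = famMap a (famEquiv hs Y b) := fun a b => famMap_comp_apply a b _
  rw [Hom.mul_def, hc, e, map_mul, ← hc, ← hc, lift_fst, lift_snd]

end Grp

section Eval

variable {x : AlgSt.ofSp F ⥤ᵇ 𝒳} {h : FibCat.IsFibGrpd 𝒳.p}
  (hs : Presheaf.IsSheaf (AlgSp.J S) (autPsh x h))

/-- The universal point of a scheme. -/
abbrev idPt (T : Over S) : (AlgSt.ofSch T).obj :=
  (⟨T, ⟨𝟙 T⟩⟩ : Stk.EltObj ((AlgSp.yon S).obj T).obj)

/-- Every point maps to the universal one. -/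
def toIdPt {T : Over S} (o : (AlgSt.ofSch T).obj) : o ⟶ idPt T :=
  (⟨o.sec.down, ULift.ext _ _ (Category.comp_id o.sec.down)⟩ :
    (⟨o.base, o.sec⟩ : Stk.EltObj ((AlgSp.yon S).obj T).obj) ⟶ ⟨T, ⟨𝟙 T⟩⟩)

lemma hom_idPt {T : Over S} {o : (AlgSt.ofSch T).obj} (m : o ⟶ idPt T) : m.hom = o.sec.down :=
  (Category.comp_id _).symm.trans (congrArg ULift.down m.map_sec)

/-- The automorphism attached to a morphism from a scheme. -/
def evPt {T : Over S} {b : (yon S).obj T ⟶ F} (φ : Over.mk b ⟶ autG x h hs) :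
    AutO (x.obj ((AlgSt.ofSpMap b).obj (idPt T))) :=
  (famEquiv hs (Over.mk b) φ).1 (idPt T)

lemma evPt_bijective {T : Over S} (b : (yon S).obj T ⟶ F) :
    Function.Bijective (evPt hs (b := b)) := by
  refine Function.Bijective.comp (g := fun f : fam x h (Over.mk b) => f.1 (idPt T)) ⟨fun f g e => ?_,
    fun α => ⟨⟨fun o => res x h ((AlgSt.ofSpMap b).map (toIdPt o)) α, fun o' o m => ?_⟩, ?_⟩⟩
    (famEquiv hs (Over.mk b)).bijective
  · refine Subtype.ext (funext fun o => ?_)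
    rw [← f.2 (toIdPt o), ← g.2 (toIdPt o)]
    exact congrArg _ e
  · rw [res_comp]
    exact res_congr x h (show m.hom ≫ o.sec.down = o'.sec.down from hom_idPt (m ≫ toIdPt o)) α
  · exact (res_congr x h (g := 𝟙 _) rfl _).trans (res_id x h _)

lemma evPt_mul {T : Over S} {b : (yon S).obj T ⟶ F} (φ ψ : Over.mk b ⟶ autG x h hs) :
    letI := autGrp x h hs
    evPt hs (φ * ψ) = evPt hs φ * evPt hs ψ := by
  letI := autGrp x h hs
  exact congrArg (fun f : fam x h (Over.mk b) => f.1 (idPt T)) (famEquiv_mul hs φ ψ)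

/-- The morphism of universal points. -/
def idPtMap {T' T : Over S} {b' : (yon S).obj T' ⟶ F} {b : (yon S).obj T ⟶ F} (t : T' ⟶ T)
    (wb : (yon S).map t ≫ b = b') :
    (AlgSt.ofSpMap b').obj (idPt T') ⟶ (AlgSt.ofSpMap b).obj (idPt T) :=
  castPt (Over.homMk ((yon S).map t) wb : Over.mk b' ⟶ Over.mk b) (idPt T') ≫
    (AlgSt.ofSpMap b).map (toIdPt _)

lemma idPtMap_hom {T' T : Over S} {b' : (yon S).obj T' ⟶ F} {b : (yon S).obj T ⟶ F} (t : T' ⟶ T)
    (wb : (yon S).map t ≫ b = b') : (idPtMap t wb).hom = t :=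
  (Category.id_comp _).trans (Category.id_comp t)

lemma evPt_natural {T' T : Over S} {b' : (yon S).obj T' ⟶ F} {b : (yon S).obj T ⟶ F} (t : T' ⟶ T)
    (wb : (yon S).map t ≫ b = b') (φ : Over.mk b ⟶ autG x h hs) :
    evPt hs ((Over.homMk ((yon S).map t) wb : Over.mk b' ⟶ Over.mk b) ≫ φ) =
      res x h (idPtMap t wb) (evPt hs φ) := by
  let a : Over.mk b' ⟶ Over.mk b := Over.homMk ((yon S).map t) wb
  have e : (famEquiv hs (Over.mk b') (a ≫ φ)).1 (idPt T') =
      res x h (castPt a (idPt T')) ((famEquiv hs (Over.mk b) φ).1 _) :=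
    congrArg (fun f : fam x h (Over.mk b') => f.1 (idPt T')) (famMap_comp_apply a φ _)
  refine e.trans ?_
  rw [← (famEquiv hs (Over.mk b) φ).2 (toIdPt ((AlgSt.ofSpMap a.left).obj (idPt T'))), res_comp]
  rfl

/-- The morphism of a point. -/
abbrev pointHom (a : (AlgSt.ofSp F).obj) : (yon S).obj a.base ⟶ F :=
  ((AlgSp.J S).uliftYonedaEquiv).symm a.sec

/-- The comparison of a point with the universal point of its Yoneda morphism. -/
def toPtOf (a : (AlgSt.ofSp F).obj) {b : (yon S).obj a.base ⟶ F}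
    (hb : b = pointHom a) :
    a ⟶ (AlgSt.ofSpMap b).obj (idPt a.base) :=
  (⟨𝟙 a.base, by
    change F.obj.map (𝟙 (op a.base)) (b.hom.app (op a.base) ⟨𝟙 a.base⟩) = a.sec
    rw [FunctorToTypes.map_id_apply, hb]
    exact ((AlgSp.J S).uliftYonedaEquiv.{u + 1} (F := F)).apply_symm_apply a.sec⟩ :
    (⟨a.base, a.sec⟩ : Stk.EltObj F.obj) ⟶ ⟨a.base, b.hom.app (op a.base) ⟨𝟙 a.base⟩⟩)

/-- The automorphism of a point attached to a morphism from it. -/
def evAt (a : (AlgSt.ofSp F).obj) {b : (yon S).obj a.base ⟶ F}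
    (hb : b = pointHom a) (φ : Over.mk b ⟶ autG x h hs) :
    AutO (x.obj a) :=
  res x h (toPtOf a hb) (evPt hs φ)

end Eval

section Props

variable (x : AlgSt.ofSp F ⥤ᵇ 𝒳) (h : FibCat.IsFibGrpd 𝒳.p)
  (hs : Presheaf.IsSheaf (AlgSp.J S) (autPsh x h))

lemma prop_autG {P : MorphismProperty Scheme.{u}} (hA : AlgSp.IsAlgSpace (autG x h hs).left)
    (hF : AlgSp.IsAlgSpace F) (π : 𝒳 ⥤ᵇ AlgSt.ofSp F)
    (e : BasedFunctor.comp x π ≅ BasedFunctor.id (AlgSt.ofSp F))
    (hx : AlgSt.RepByAlgSpWith (LP P) x) : LP P (autG x h hs).hom := by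
  refine prop_of_repWith_ofSpMap (sourceIsoInv_locP P) (testOnSchemes_locP P) hA hF ?_
  change AlgSt.RepByAlgSpWith (LP P) (BasedFunctor.comp (autToFp x h) (FibCat.fpFst x x))
  exact (repWith_square (f := FibCat.fpFst x x)
    (f' := BasedFunctor.comp (autToFp x h) (FibCat.fpFst x x)) (autToFp_isEquivOver x h π e)
    (isEquivOver_id _) (Iso.refl _)).1 (repWith_fpFst x hx)

theorem flat_lfp_autG (h𝒳 : AlgSt.IsAlgStack K₀ 𝒳) (hA : AlgSp.IsAlgSpace (autG x h hs).left)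
    (hF : AlgSp.IsAlgSpace F) (π : 𝒳 ⥤ᵇ AlgSt.ofSp F)
    (hπ : Gerb.IsGerbeOver (QuotSh.J K₀ S) π)
    (e : BasedFunctor.comp x π ≅ BasedFunctor.id (AlgSt.ofSp F)) :
    LP @Flat (autG x h hs).hom ∧ LP @LocallyOfFinitePresentation (autG x h hs).hom :=
  have hT := isAlgStack_ofSp (⟨F, hF⟩ : AlgSp.Space S)
  ⟨prop_autG x h hs hA hF π e (repWith_section x e (H14Gerbe.flat_diag_gerbe h𝒳 hT hπ)),
    prop_autG x h hs hA hF π e (repWith_section x e (H14Gerbe.lfp_diag_gerbe h𝒳 hT hπ))⟩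

end Props

end Groth.Agent.H14SpQuot
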