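import Groth.Agent.H14SpQuot.AlgStack
import Groth.Agent.H14SpQuot.BGDiag
import Groth.Agent.H14AlgSt.SmoothTot
import Groth.Agent.H14AlgSt.LocQ2
import Groth.Agent.H13Flat.SmoothDescent

/-!
# Smoothness of the classifying stack of a flat, locally finitely presented group space
-/

set_option autoImplicit false
set_option backward.isDefEq.respectTransparency false
set_option backward.isDefEq.respectTransparency.types false
set_option linter.style.haveILetI false

universe u

open CategoryTheory CategoryTheory.Limits MonoidalCategory CartesianMonoidalCategory MonObj GrpObj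
open AlgebraicGeometry AlgSt
open AlgSp (yon)

noncomputable section

namespace Groth.Agent.H14SpQuot

open H14Fib H14AlgSt

variable {S : Scheme.{u}}

local notation "K₀" => Scheme.fppfPrecoverage

lemma surjective_left_of_surjMor {V A : Over S} (v : V ⟶ A)
    (h : AlgSp.IsSurjectiveMor ((yon S).map v)) (a : A.left) : a ∈ Set.range v.left := by
  obtain ⟨x, hx⟩ := h (AlgSp.Points.ofScheme A a)
  obtain ⟨w, rfl⟩ := (AlgSp.Points.schemeEquiv V).surjective x
  exact ⟨w, (AlgSp.Points.schemeEquiv A).injective ((H14AlgSt.range_map_yon_map v w).symm.trans hx)⟩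

/-- A smooth chart of a category with a flat, locally finitely presented, surjective point has
smooth source. -/
theorem smooth_hom_of_point {𝒳 : AlgSt.Cat S}
    (x : FibCat.overCat (baseObj S) ⥤ᵇ 𝒳) (hxs : RepByAlgSpWith AlgSp.IsSurjectiveMor x)
    (hxf : RepByAlgSpWith (AlgSp.LocP @Flat) x)
    (hxp : RepByAlgSpWith (AlgSp.LocP @LocallyOfFinitePresentation) x)
    {A : Over S} (z : FibCat.overCat A ⥤ᵇ 𝒳) (hz : RepByAlgSpWith (AlgSp.LocP @Smooth) z) :
    Smooth A.hom := by
  obtain ⟨F, e, he, hπf⟩ := hxf A z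
  let q₁ := BasedFunctor.comp e (FibCat.fpFst z x)
  let q₂ := BasedFunctor.comp e (FibCat.fpSnd z x)
  obtain ⟨kq⟩ := spMapOfOver_eq q₁
  have hπp := prop_of_repData (sourceIsoInv_locP _) (hxp A z) he kq
  have hπs := prop_of_repData sourceIsoInv_surjective (hxs A z) he kq
  have hσ : AlgSp.LocP @Smooth (spMapOfOver q₂) :=
    prop_of_repWith_spMap (sourceIsoInv_locP _)
      ((repWith_equiv_comp_iff he).1 (repWith_fpSnd x hz))
  obtain ⟨V, p, hp, hps⟩ := F.property.atlas
  have hV := AlgSp.IsAlgSpace.yon_obj V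
  have hA := AlgSp.IsAlgSpace.yon_obj A
  have hpe : ∀ {P : MorphismProperty Scheme.{u}}, H12AlgSp.EtLocal P → (@Etale ≤ P) →
      AlgSp.LocP P p := fun hP hle =>
    H12AlgSp.locP_mono hle (H12AlgSp.locP_of_repWith H12AlgSp.etLocal_etale hp)
  let v : V ⟶ A := (yon S).preimage (p ≫ spMapOfOver q₁)
  have ev : (yon S).map v = p ≫ spMapOfOver q₁ := (yon S).map_preimage _
  have hvf : Flat v.left := (locP_yon_iff H12AlgSp.etLocal_flat v).1 (by
    rw [ev]
    exact H12AlgSp.locP_comp H12AlgSp.etLocal_flat hV F.property hA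
      (hpe H12AlgSp.etLocal_flat fun _ _ f (h : Etale f) => (inferInstance : Flat f)) hπf)
  have hvp : LocallyOfFinitePresentation v.left := (locP_yon_iff H12AlgSp.etLocal_lfp v).1 (by
    rw [ev]
    exact H12AlgSp.locP_comp H12AlgSp.etLocal_lfp hV F.property hA
      (hpe H12AlgSp.etLocal_lfp fun _ _ f (h : Etale f) =>
        (inferInstance : LocallyOfFinitePresentation f)) hπp)
  have hvs : AlgSp.IsSurjectiveMor ((yon S).map v) := by
    rw [ev]
    intro a
    obtain ⟨b, rfl⟩ := hπs a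
    obtain ⟨c, rfl⟩ := H12AlgSp.surjective_map_of_repWith le_rfl hps b
    exact ⟨c, AlgSp.Points.map_comp _ _ _⟩
  let w : V ⟶ baseObj S := (yon S).preimage (p ≫ spMapOfOver q₂)
  have hw : Smooth w.left := (locP_yon_iff H12AlgSp.etLocal_smooth w).1 (by
    rw [(yon S).map_preimage]
    exact H12AlgSp.locP_comp H12AlgSp.etLocal_smooth hV F.property (AlgSp.IsAlgSpace.yon_obj _)
      (hpe H12AlgSp.etLocal_smooth fun _ _ f (h : Etale f) => (inferInstance : Smooth f)) hσ)
  have hw' : w.left = V.hom := (Category.comp_id _).symm.trans (Over.w w)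
  refine H13Flat.smooth_of_fppf_covering A.hom fun a => ⟨V.left, v.left, hvf, hvp,
    surjective_left_of_surjMor v hvs a, ?_⟩
  rw [Over.w v, ← hw']
  exact hw

/-- The classifying stack of a flat, locally finitely presented group space is smooth. -/
theorem locQ_smooth_spBG (G : Over ((yon S).obj (Over.mk (𝟙 S)))) [GrpObj G]
    (hG : AlgSp.IsAlgSpace G.left)
    (hf : AlgSp.LocP (@Flat ⊓ @LocallyOfFinitePresentation) G.hom) :
    AlgSt.LocQ (AlgSp.LocP @Smooth) (FibCat.toSelf (AlgSt.SpBG K₀ G)) := by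
  have hB : AlgSp.IsAlgSpace ((yon S).obj (Over.mk (𝟙 S))) := AlgSp.IsAlgSpace.yon_obj _
  obtain ⟨g1, g2, g3⟩ := repWith_spQuotMap_fppf (aX := trivGAction G) hB hG hf
  obtain ⟨𝒳', e, he⟩ := H14Small.exists_small_spQuot (aX := trivGAction G) hB hG
  obtain ⟨e', -, ⟨j⟩⟩ := id he
  let x₁ : ofSp ((yon S).obj (baseObj S)) ⥤ᵇ 𝒳' :=
    BasedFunctor.comp (spQuotMap K₀ G (trivGAction G)) e'
  let k : BasedFunctor.comp x₁ e ≅
      BasedFunctor.comp (BasedFunctor.id _) (spQuotMap K₀ G (trivGAction G)) :=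
    (Stk.restr (spQuotMap K₀ G (trivGAction G)) _).mapIso j
  let x := BasedFunctor.comp (ofOverCat (baseObj S)) x₁
  have hx : ∀ {P : MorphismProperty (AlgSp.Sp S)},
      RepByAlgSpWith P (spQuotMap K₀ G (trivGAction G)) → RepByAlgSpWith P x := fun h =>
    (repWith_equiv_comp_iff (ofOverCat_isEquivOver (baseObj S))).1
      ((H14Small.repWith_transfer (H14Fib.isEquivOver_id _) he k).2 h)
  have hst : Stk.IsStack (AlgSp.J S) 𝒳' := (H14Stk.isStack_iff (AlgSp.J S) he).2 isStack_spQuot
  obtain ⟨A, z, hz, hzs⟩ :=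
    H14Artin.hasAtlas_smooth_of_fppf_chart hst x (hx g3) (hx g1) (hx g2)
  have hA := smooth_hom_of_point x (hx g3) (hx g1) (hx g2) z hz
  have hz' : ∀ {P : MorphismProperty (AlgSp.Sp S)},
      RepByAlgSpWith P z → RepByAlgSpWith P (BasedFunctor.comp z e) := fun h =>
    (H14Small.repWith_transfer (H14Fib.isEquivOver_id (FibCat.overCat A)) he (Iso.refl _)).1 h
  let h : A ⟶ baseObj S := Over.homMk A.hom (Category.comp_id _)
  exact ⟨A, baseObj S, BasedFunctor.comp z e, FibCat.toSelf (FibCat.overCat (baseObj S)), h,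
    eqToIso ((comp_toSelfU (BasedFunctor.comp z e)).trans (H14Stk.comp_toSelf (AlgSt.overMap h)).symm),
    hz' hz, hz' hzs, repWith_toSelf_base.1,
    (locP_yon_iff H12AlgSp.etLocal_smooth h).2 hA⟩

end Groth.Agent.H14SpQuot
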