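import Groth.Prelude.Def_AlgSt6
import Groth.Agent.H14Fib.Basic
import Groth.Agent.H14Quot.GlueSheaf

/-!
# Quotient categories with sheaf torsors: cartesian lifts
-/

set_option autoImplicit false
set_option backward.isDefEq.respectTransparency false
set_option backward.isDefEq.respectTransparency.types false

universe u

open CategoryTheory CategoryTheory.Limits MonoidalCategory CartesianMonoidalCategory MonObj GrpObj
open AlgebraicGeometry AlgSt
open AlgSp (yon)

namespace Groth.Agent.H14SpQuot

variable {S : Scheme.{u}} {K : Precoverage Scheme.{u}} {B : AlgSp.Sp S} {G : Over B} [GrpObj G]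
  {X : Over B} {aX : AlgSp.GAction G X}

section CartLift

variable {A A' C : SpQuotObj K G aX}

/-- The square of a morphism, in sheaves. -/
lemma cart_left (φ : A ⟶ A') :
    IsPullback φ.top.left A.π.left A'.π.left ((yon S).map φ.base) :=
  φ.cart.map (Over.forget B)

lemma act_cart_left (A : SpQuotObj K G aX) :
    IsPullback A.act.act.left (snd G A.P).left A.π.left A.π.left :=
  A.cart.map (Over.forget B)

/-- The unique morphism over `g` into a cartesian morphism. -/
noncomputable def cartLift (φ : A' ⟶ A) (ψ : C ⟶ A) (g : C.base ⟶ A'.base)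
    (h : g ≫ φ.base = ψ.base) : C ⟶ A' :=
  have wb : (yon S).map g ≫ A'.b = C.b := by
    rw [← φ.wb, ← ψ.wb, ← h, Functor.map_comp, Category.assoc]
  have e : bHom g wb ≫ bHom φ.base φ.wb = bHom ψ.base ψ.wb := by
    ext1
    change (yon S).map g ≫ (yon S).map φ.base = _
    rw [← Functor.map_comp, h]
    rfl
  { base := g
    wb := wb
    top := φ.cart.lift ψ.top (C.π ≫ bHom g wb) (by rw [Category.assoc, e, ψ.cart.w])
    eqv := by
      apply φ.cart.hom_ext
      · rw [Category.assoc, IsPullback.lift_fst, Category.assoc, φ.eqv, ψ.eqv,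
          ← MonoidalCategory.whiskerLeft_comp_assoc, IsPullback.lift_fst]
      · rw [Category.assoc, IsPullback.lift_snd, Category.assoc, A'.cart.w,
          whiskerLeft_snd_assoc, IsPullback.lift_snd, ← Category.assoc, C.cart.w, Category.assoc]
    cart := IsPullback.of_right (by rw [IsPullback.lift_fst, e]; exact ψ.cart)
      (IsPullback.lift_snd _ _ _ _) φ.cart
    wφ := by rw [← φ.wφ, IsPullback.lift_fst_assoc, ψ.wφ] }

lemma cartLift_comp (φ : A' ⟶ A) (ψ : C ⟶ A) (g : C.base ⟶ A'.base)
    (h : g ≫ φ.base = ψ.base) : cartLift φ ψ g h ≫ φ = ψ :=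
  SpQuotObj.hom_ext h (IsPullback.lift_fst _ _ _ _)

/-- Morphisms over the same base with the same composite into a third object are equal. -/
lemma hom_ext' (φ : A' ⟶ A) {χ χ' : C ⟶ A'} (hb : χ.base = χ'.base) (h : χ ≫ φ = χ' ≫ φ) :
    χ = χ' :=
  SpQuotObj.hom_ext hb (φ.cart.hom_ext (congrArg SpQuotObj.Hom.top h)
    (by
      have e : bHom χ.base χ.wb = bHom χ'.base χ'.wb :=
        Over.OverMorphism.ext (congrArg (yon S).map hb)
      rw [χ.cart.w, χ'.cart.w, e]))

end CartLift

section Lift

variable (A : SpQuotObj K G aX) {V : Over S} (f : V ⟶ A.base)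

/-- The morphism over `B` along which a torsor is pulled back. -/
noncomputable abbrev pullB : Over.mk ((yon S).map f ≫ A.b) ⟶ Over.mk A.b := bHom f rfl

/-- The induced action on a base change of a torsor. -/
noncomputable def pullAct : AlgSp.GAction G (pullback A.π (pullB A f)) where
  act := pullback.lift ((G ◁ pullback.fst A.π (pullB A f)) ≫ A.act.act)
    (snd G _ ≫ pullback.snd A.π (pullB A f))
    (by rw [Category.assoc, A.cart.w, whiskerLeft_snd_assoc, pullback.condition, Category.assoc])
  one_act := by
    apply pullback.hom_ext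
    · rw [Category.assoc, pullback.lift_fst, ← whisker_exchange_assoc, A.act.one_act,
        leftUnitor_naturality]
    · rw [Category.assoc, pullback.lift_snd, whiskerRight_snd_assoc, leftUnitor_hom]
  mul_act := by
    apply pullback.hom_ext
    · rw [Category.assoc, pullback.lift_fst, ← whisker_exchange_assoc, A.act.mul_act,
        associator_naturality_right_assoc, Category.assoc, Category.assoc, pullback.lift_fst,
        ← MonoidalCategory.whiskerLeft_comp_assoc, ← MonoidalCategory.whiskerLeft_comp_assoc,
        pullback.lift_fst]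
    · simp

lemma pullAct_fst : (pullAct A f).act ≫ pullback.fst A.π (pullB A f) =
    (G ◁ pullback.fst A.π (pullB A f)) ≫ A.act.act :=
  pullback.lift_fst _ _ _

variable [K.IsStableUnderBaseChange]

lemma pull_loc : HasSecLoc K (pullback.snd A.π (pullB A f)).left := by
  obtain ⟨R, hR, hs⟩ := A.loc
  obtain ⟨κ, Z, g, rfl⟩ := Presieve.exists_eq_ofArrows R
  refine ⟨_, K.mem_coverings_of_isPullback g hR f.left
    (fun i => pullback.fst f.left (g i)) (fun i => pullback.snd f.left (g i))
    (fun i => IsPullback.of_hasPullback _ _), ?_⟩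
  rintro _ _ ⟨i⟩
  obtain ⟨s, hsi⟩ := hs (g i) ⟨i⟩
  let W : Over S := Over.mk (pullback.fst f.left (g i) ≫ V.hom)
  let t : W ⟶ Over.mk (g i ≫ A.base.hom) := Over.homMk (pullback.snd f.left (g i)) (by
    change pullback.snd f.left (g i) ≫ g i ≫ A.base.hom = pullback.fst f.left (g i) ≫ V.hom
    rw [← pullback.condition_assoc, Over.w f])
  let k : W ⟶ V := Over.homMk (pullback.fst f.left (g i))
  refine ⟨((IsPullback.of_hasPullback A.π (pullB A f)).map (Over.forget B)).lift
    ((yon S).map t ≫ s) ((yon S).map k) ?_, IsPullback.lift_snd _ _ _ _⟩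
  change ((yon S).map t ≫ s) ≫ A.π.left = (yon S).map k ≫ (yon S).map f
  rw [Category.assoc, hsi, ← Functor.map_comp, ← Functor.map_comp]
  congr 1
  exact Over.OverMorphism.ext pullback.condition.symm

/-- The base change of a torsor with its map to `X`. -/
noncomputable def pullObj : SpQuotObj K G aX where
  base := V
  b := (yon S).map f ≫ A.b
  P := pullback A.π (pullB A f)
  act := pullAct A f
  π := pullback.snd A.π (pullB A f)
  cart := by
    refine IsPullback.of_right ?_ (pullback.lift_snd _ _ _) (IsPullback.of_hasPullback A.π (pullB A f))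
    rw [pullAct_fst, ← pullback.condition]
    exact (isPullback_whiskerLeft' (pullback.fst A.π (pullB A f))).paste_horiz A.cart
  loc := pull_loc A f
  φ := pullback.fst A.π (pullB A f) ≫ A.φ
  eqv := by
    rw [reassoc_of% (pullAct_fst A f), A.eqv, MonoidalCategory.whiskerLeft_comp, Category.assoc]

/-- The morphism from the base change. -/
noncomputable def pullHom : pullObj A f ⟶ A where
  base := f
  wb := rfl
  top := pullback.fst A.π (pullB A f)
  eqv := pullAct_fst A f
  cart := IsPullback.of_hasPullback A.π (pullB A f)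
  wφ := rfl

end Lift

/-- The quotient category with sheaf torsors is fibred in groupoids. -/
theorem spQuot_fibGrpd [K.IsStableUnderBaseChange] : FibCat.IsFibGrpd (SpQuotSt K G aX).p where
  exists_lift := fun {A} {V} f =>
    ⟨pullObj A f, pullHom A f, IsHomLift.map (SpQuotObj.forget K G aX) (pullHom A f)⟩
  isStronglyCartesian := fun {A' A} φ =>
    { universal_property' := fun {C} g ψ hψ => by
        have hg : g ≫ φ.base = ψ.base :=
          IsHomLift.eq_of_isHomLift (SpQuotObj.forget K G aX)
            (g ≫ (SpQuotObj.forget K G aX).map φ) ψ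
        refine ⟨cartLift φ ψ g hg,
          ⟨IsHomLift.map (SpQuotObj.forget K G aX) (cartLift φ ψ g hg), cartLift_comp φ ψ g hg⟩, ?_⟩
        rintro χ ⟨hχ, h⟩
        exact hom_ext' φ (IsHomLift.eq_of_isHomLift (SpQuotObj.forget K G aX) g χ).symm
          (h.trans (cartLift_comp φ ψ g hg).symm) }

end Groth.Agent.H14SpQuot
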