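import Groth.Agent.H14SpQuot.Neutral
import Groth.Agent.H14Gerbe.LocLift
import Groth.Agent.H14Gerbe.AlgGerbe
import Groth.Agent.S10530
import Groth.Agent.S10527

/-!
# Gerbes are locally classifying stacks
-/

set_option autoImplicit false
set_option backward.isDefEq.respectTransparency false
set_option backward.isDefEq.respectTransparency.types false

universe u

open CategoryTheory CategoryTheory.Limits Opposite AlgebraicGeometry
open MonoidalCategory CartesianMonoidalCategory MonObj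
open AlgSp (yon)

noncomputable section

namespace Groth.Agent.H14SpQuot

open H14Fib H14Stk H14AlgSt Gerb AlgSt

variable {S : Scheme.{u}} {B : AlgSp.Sp S} {𝒳 𝒴 : AlgSt.Cat S}

local notation "K₀" => Scheme.fppfPrecoverage
local notation "LP" => AlgSp.LocP

lemma baseSec_trivTors {G : Over B} [GrpObj G] (a : (AlgSt.ofSp B).obj) :
    W4stkstmgerbes.baseSec K₀ G (AlgSt.trivGAction G) (trivTors G a) = a.sec :=
  (congrArg (fun b => (AlgSp.J S).uliftYonedaEquiv b) (base_hom a)).trans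
    (Equiv.apply_symm_apply _ _)

/-- The classifying stack is a gerbe over the base. -/
theorem isGerbeOver_spQuotToBase (G : Over B) [GrpObj G] :
    Gerb.IsGerbeOver (QuotSh.J K₀ S)
      (W4stkstmgerbes.spQuotToBase K₀ G (AlgSt.trivGAction G)) := by
  refine ⟨fun y => Locally.of_forall fun V f => ?_, fun A A' b hb => ?_⟩
  · let f' : V ⟶ y.base := f
    let a : (AlgSt.ofSp B).obj := (⟨V, B.obj.map f'.op y.sec⟩ : Stk.EltObj B.obj)
    let g : (W4stkstmgerbes.spQuotToBase K₀ G (AlgSt.trivGAction G)).obj (trivTors G a) ⟶ y :=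
      (⟨f', (baseSec_trivTors (G := G) a).symm⟩ :
        (⟨V, W4stkstmgerbes.baseSec K₀ G (AlgSt.trivGAction G) (trivTors G a)⟩ : Stk.EltObj B.obj) ⟶
          ⟨y.base, y.sec⟩)
    exact ⟨trivTors G a, g, IsHomLift.map (AlgSt.ofSp B).p g⟩
  · have hA' : A'.base = A.base :=
      @IsHomLift.codomain_eq _ _ _ _ (AlgSt.ofSp B).p _ _ _ _ (𝟙 (A.base)) b hb
    let h : A.base ⟶ A'.base := b.hom
    have hh : h = eqToHom hA'.symm :=
      (@IsHomLift.fac' _ _ _ _ (AlgSt.ofSp B).p _ _ _ _ (𝟙 A.base) b hb).trans (by simp)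
    obtain ⟨R₁, hR₁, h₁⟩ := locCovers_trivTors G A
    obtain ⟨R₂, hR₂, h₂⟩ := locCovers_trivTors G A'
    refine ⟨R₁ ⊓ R₂.pullback h,
      (QuotSh.J K₀ S).intersection_covering hR₁ ((QuotSh.J K₀ S).pullback_stable h hR₂), ?_⟩
    rintro V f ⟨hf₁, hf₂⟩
    obtain ⟨a, m, hm⟩ := h₁ f hf₁
    obtain ⟨a', m', hm'⟩ := h₂ (f ≫ h) hf₂
    have ha : a.base = V := @IsHomLift.domain_eq _ _ _ _ (AlgSt.SpBG K₀ G).p _ _ _ _ f m hm
    have ha' : a'.base = V :=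
      @IsHomLift.domain_eq _ _ _ _ (AlgSt.SpBG K₀ G).p _ _ _ _ (f ≫ h) m' hm'
    have fm : m.base = eqToHom ha ≫ f :=
      (@IsHomLift.fac' _ _ _ _ (AlgSt.SpBG K₀ G).p _ _ _ _ f m hm).trans (by simp)
    have fm' : m'.base = eqToHom ha' ≫ f ≫ h :=
      (@IsHomLift.fac' _ _ _ _ (AlgSt.SpBG K₀ G).p _ _ _ _ (f ≫ h) m' hm').trans (by simp)
    have hb' : B.obj.map h.op (W4stkstmgerbes.baseSec K₀ G (AlgSt.trivGAction G) A') =
        W4stkstmgerbes.baseSec K₀ G (AlgSt.trivGAction G) A := b.map_sec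
    have hs : B.obj.map (eqToHom (ha.trans ha'.symm)).op a'.sec = a.sec := by
      rw [← baseSec_trivTors (G := G) a, ← baseSec_trivTors (G := G) a',
        ← W4stkstmgerbes.map_baseSec K₀ G _ m', ← W4stkstmgerbes.map_baseSec K₀ G _ m,
        ← hb']
      refine (pmap_comp (P := B.obj) _ _ _).trans (Eq.trans ?_ (pmap_comp (P := B.obj) _ _ _).symm)
      congr 4
      rw [fm, fm', eqToHom_trans_assoc, Category.assoc]
    let n : a ⟶ a' :=
      (⟨eqToHom (ha.trans ha'.symm), hs⟩ :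
        (⟨a.base, a.sec⟩ : Stk.EltObj B.obj) ⟶ ⟨a'.base, a'.sec⟩)
    let ψ : trivTors G a ⟶ A' := (spQuotMap K₀ G (AlgSt.trivGAction G)).map
      (show (show (AlgSt.ofSp (𝟙_ (Over B)).left).obj from a) ⟶ a' from n) ≫ m'
    have hψ : ψ.base = eqToHom ha ≫ f ≫ h := by
      change eqToHom (ha.trans ha'.symm) ≫ m'.base = _
      rw [fm', eqToHom_trans_assoc]
    refine ⟨trivTors G a, m, ψ, hm, IsHomLift.of_fac' _ _ _ ha hA' ?_, Stk.EltObj.hom_ext ?_⟩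
    · change ψ.base = eqToHom ha ≫ f ≫ eqToHom hA'.symm
      rw [hψ, hh]
    · change m.base ≫ h = ψ.base
      rw [hψ, fm, Category.assoc]

/-- A gerbe becomes a classifying stack over a cover. -/
theorem exists_cover_of_gerbe (h𝒳 : AlgSt.IsAlgStack K₀ 𝒳) (h𝒴 : AlgSt.IsAlgStack K₀ 𝒴)
    (π : 𝒳 ⥤ᵇ 𝒴) (hπ : Gerb.IsGerbeOver (QuotSh.J K₀ S) π) :
    ∃ (U : AlgSp.Space S) (G : Over U.obj) (_ : GrpObj G),
      AlgSp.IsAlgSpace G.left ∧ LP @Flat G.hom ∧ LP @LocallyOfFinitePresentation G.hom ∧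
      ∃ u : AlgSt.ofSp U.obj ⥤ᵇ 𝒴,
        AlgSt.RepByAlgSpWith (LP @Flat) u ∧
        AlgSt.RepByAlgSpWith (LP @LocallyOfFinitePresentation) u ∧
        AlgSt.RepByAlgSpWith AlgSp.IsSurjectiveMor u ∧
        ∃ e : AlgSt.SpBG K₀ G ⥤ᵇ FibCat.fp u π,
          FibCat.IsEquivOver e ∧
          Nonempty (BasedFunctor.comp e (FibCat.fpFst u π) ≅
            W4stkstmgerbes.spQuotToBase K₀ G (AlgSt.trivGAction G)) := by
  obtain ⟨V, x₀, hx, hxs⟩ := h𝒳.atlas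
  let U : AlgSp.Space S := ⟨(yon S).obj V, AlgSp.IsAlgSpace.yon_obj V⟩
  let s₀ : AlgSt.ofSp U.obj ⥤ᵇ 𝒳 := BasedFunctor.comp (AlgSt.toOverCat V) x₀
  let u := BasedFunctor.comp s₀ π
  have hU := isAlgStack_ofSp U
  have hu1 : AlgSt.RepByAlgSp1 u :=
    repByAlgSp1_of_diag h𝒴.isStack.1 h𝒴.diag (repByAlgSp_ofSp U) u
  have hflat : AlgSt.RepByAlgSpWith (LP @Flat) u :=
    repWith_of_locQ smLocal_flat (baseStable_locP H12AlgSp.etLocal_flat)
      (localFppf_of_fpqc (S10530.result S)) hU h𝒴 hu1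
      (locQ_comp H12AlgSp.etLocal_flat smLocal_flat hU h𝒳 h𝒴
        (locQ_of_repWith smLocal_flat hU h𝒳
          ((repWith_equiv_comp_iff (toOverCat_isEquivOver V)).1
            (repWith_locP_mono smooth_le_flat hx)))
        (H14Gerbe.locQ_flat_gerbe h𝒳 h𝒴 hπ))
  have hlfp : AlgSt.RepByAlgSpWith (LP @LocallyOfFinitePresentation) u :=
    repWith_of_locQ smLocal_lfp (baseStable_locP H12AlgSp.etLocal_lfp)
      (localFppf_of_fpqc (S10527.result S)) hU h𝒴 hu1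
      (locQ_comp H12AlgSp.etLocal_lfp smLocal_lfp hU h𝒳 h𝒴
        (locQ_of_repWith smLocal_lfp hU h𝒳
          ((repWith_equiv_comp_iff (toOverCat_isEquivOver V)).1
            (repWith_locP_mono smooth_le_lfp hx)))
        (H14Gerbe.locQ_lfp_gerbe h𝒳 h𝒴 hπ))
  have hsurj : AlgSt.RepByAlgSpWith AlgSp.IsSurjectiveMor u := by
    refine repWith_surjective_of_points hU.isStack.1 h𝒴.isStack.1 hu1 fun y => ?_
    obtain ⟨p, rfl⟩ := H14Gerbe.surjective_gerbe h𝒳 h𝒴 hπ y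
    obtain ⟨q, rfl⟩ := surjective_of_repWith h𝒳.isStack.1
      ((repWith_equiv_comp_iff (toOverCat_isEquivOver V)).1 hxs) p
    exact ⟨q, points_map_comp _ _ q⟩
  let x : AlgSt.ofSp U.obj ⥤ᵇ FibCat.fp u π :=
    FibCat.fpLift (F := u) (G := π) (BasedFunctor.id _) s₀ (Iso.refl u)
  obtain ⟨G, hG, hA, hfl, hfp, e, he, hei⟩ := exists_spBG_of_section
    (isAlgStack_fp' hU h𝒳 h𝒴 u π) U.property (FibCat.fpFst u π)
    (isGerbeOver_fpFst u π h𝒴.isStack.1 hU.isStack.1 hπ) x (Iso.refl _)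
  exact ⟨U, G, hG, hA, hfl, hfp, u, hflat, hlfp, hsurj, e, he, hei⟩

/-- Being a gerbe is read on a cover. -/
theorem isGerbeOver_of_cover (h𝒳 : AlgSt.IsAlgStack K₀ 𝒳) (h𝒴 : AlgSt.IsAlgStack K₀ 𝒴)
    (π : 𝒳 ⥤ᵇ 𝒴) (U : AlgSp.Space S) (G : Over U.obj) [GrpObj G]
    (u : AlgSt.ofSp U.obj ⥤ᵇ 𝒴) (hflat : AlgSt.RepByAlgSpWith (LP @Flat) u)
    (hlfp : AlgSt.RepByAlgSpWith (LP @LocallyOfFinitePresentation) u)
    (hsurj : AlgSt.RepByAlgSpWith AlgSp.IsSurjectiveMor u)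
    (e : AlgSt.SpBG K₀ G ⥤ᵇ FibCat.fp u π) (he : FibCat.IsEquivOver e)
    (i : BasedFunctor.comp e (FibCat.fpFst u π) ≅
      W4stkstmgerbes.spQuotToBase K₀ G (AlgSt.trivGAction G)) :
    Gerb.IsGerbeOver (QuotSh.J K₀ S) π := by
  have hU := isAlgStack_ofSp U
  have hBG : FibCat.IsFibGrpd (AlgSt.SpBG K₀ G).p :=
    (isStack_spQuot : Stk.IsStack (QuotSh.J K₀ S) (AlgSt.SpBG K₀ G)).1
  exact isGerbeOver_of_fpFst u π h𝒳.isStack.1 h𝒴.isStack.1 hU.isStack.1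
    (H14Gerbe.locSurjObj_of_locQ hU h𝒴 (surjective_of_repWith h𝒴.isStack.1 hsurj)
      (locQ_of_repWith smLocal_flat hU h𝒴 hflat) (locQ_of_repWith smLocal_lfp hU h𝒴 hlfp))
    (isGerbeOver_of_comp_equiv e (FibCat.fpFst u π) hBG
      (isAlgStack_fp' hU h𝒳 h𝒴 u π).isStack.1 he
      (isGerbeOver_of_iso _ i.symm (isGerbeOver_spQuotToBase G)))

end Groth.Agent.H14SpQuot
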