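import Groth.Agent.H14SpQuot.Basic

/-!
# Objects over a sheaf covered by cartesian pieces
-/

set_option autoImplicit false
set_option backward.isDefEq.respectTransparency false
set_option backward.isDefEq.respectTransparency.types false

universe u

open CategoryTheory CategoryTheory.Limits MonoidalCategory CartesianMonoidalCategory
open AlgebraicGeometry AlgSt
open AlgSp (yon)

namespace Groth.Agent.H14SpQuot

open H14Quot

variable {S : Scheme.{u}} {B : AlgSp.Sp S} {U : Over S} {R : Sieve U}

/-- An object over `B` covered by its base changes to the arrows of a sieve. -/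
structure BPieces (R : Sieve U) {P : Over B} (γ : P.left ⟶ (yon S).obj U) where
  /-- the piece over an arrow -/
  obj : Idx R → Over B
  /-- its structure map -/
  proj : ∀ a : Idx R, (obj a).left ⟶ (yon S).obj a.obj.left
  /-- its map to the object -/
  inc : ∀ a : Idx R, obj a ⟶ P
  cart : ∀ a : Idx R, IsPullback (inc a).left (proj a) γ ((yon S).map a.obj.hom)

variable {P : Over B} {γ : P.left ⟶ (yon S).obj U} (D : BPieces R γ)

/-- The pieces of the underlying sheaf. -/
noncomputable def BPieces.toPieces : Pieces R γ where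
  obj a := (D.obj a).left
  proj := D.proj
  ι a := (D.inc a).left
  cart := D.cart

/-- The pieces of a product. -/
noncomputable def BPieces.whisker (Y : Over B) : BPieces R ((snd Y P).left ≫ γ) where
  obj a := Y ⊗ D.obj a
  proj a := (snd Y (D.obj a)).left ≫ D.proj a
  inc a := Y ◁ D.inc a
  cart a := ((isPullback_whiskerLeft' (D.inc a)).map (Over.forget B)).paste_vert (D.cart a)

variable {Z : Over B}

lemma BPieces.hom_ext (hR : R ∈ AlgSp.J S U) {f g : P ⟶ Z}
    (h : ∀ a, D.inc a ≫ f = D.inc a ≫ g) : f = g :=
  Over.OverMorphism.ext (D.toPieces.hom_ext hR fun a => congrArg CommaMorphism.left (h a))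

/-- A family on pieces is compatible when it commutes with the induced maps between pieces. -/
def BPieces.Compatible (f : ∀ a, D.obj a ⟶ Z) : Prop :=
  ∀ (a b : Idx R) (m : a.obj ⟶ b.obj) (k : D.obj a ⟶ D.obj b),
    k ≫ D.inc b = D.inc a → k.left ≫ D.proj b = D.proj a ≫ (yon S).map m.left → k ≫ f b = f a

lemma BPieces.exists_glue (hR : R ∈ AlgSp.J S U) {f : ∀ a, D.obj a ⟶ Z} (hf : D.Compatible f) :
    ∃ F : P ⟶ Z, ∀ a, D.inc a ≫ F = f a := by
  have hf' : D.toPieces.Compatible fun a => (f a).left := fun a b m k h₁ h₂ => by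
    have h₁ : k ≫ (D.inc b).left = (D.inc a).left := h₁
    let k' : D.obj a ⟶ D.obj b := Over.homMk k (by
      rw [← Over.w (D.inc b), ← Over.w (D.inc a), reassoc_of% h₁])
    exact congrArg CommaMorphism.left (hf a b m k' (Over.OverMorphism.ext h₁) h₂)
  obtain ⟨F, hF⟩ := D.toPieces.exists_glue hR hf'
  refine ⟨Over.homMk F (D.toPieces.hom_ext hR fun a => ?_), fun a => Over.OverMorphism.ext (hF a)⟩
  rw [← Category.assoc, hF a, Over.w (f a)]
  exact (Over.w (D.inc a)).symm

end Groth.Agent.H14SpQuot
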