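import Groth.Agent.H14SpQuot.Chart
import Groth.Agent.H14AlgSt.Props
import Groth.Agent.H14AlgSt.DiagProps
import Groth.Agent.H14AlgSt.DiagLFT
import Groth.Agent.S10542

/-!
# Torsors inherit properties of the group; `X ⟶ [X/G]` is representable
-/

set_option autoImplicit false
set_option backward.isDefEq.respectTransparency false
set_option backward.isDefEq.respectTransparency.types false

universe u

open CategoryTheory CategoryTheory.Limits MonoidalCategory CartesianMonoidalCategory MonObj GrpObj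
open AlgebraicGeometry AlgSt
open AlgSp (yon)

noncomputable section

namespace Groth.Agent.H14SpQuot

open H14Fib H14AlgSt

variable {S : Scheme.{u}} {B : AlgSp.Sp S} {G : Over B} [GrpObj G]
  {X : Over B} {aX : AlgSp.GAction G X}

local notation "K₀" => Scheme.fppfPrecoverage

lemma baseStable_of_stable {P : MorphismProperty (AlgSp.Sp S)} [P.IsStableUnderBaseChange] :
    BaseStable P :=
  fun _ _ _ _ _ _ _ _ _ _ _ _ sq h => MorphismProperty.of_isPullback sq h

/-- An fppf family over the base on which a torsor has sections. -/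
lemma exists_sections (A : SpQuotObj K₀ G aX) :
    ∃ (C : A.base.left → Over S) (c : ∀ t, C t ⟶ A.base),
      AlgSp.IsFppfCover (fun t => (yon S).obj (C t)) (fun t => (yon S).map (c t)) ∧
        ∀ t, ∃ σ : Over.mk ((yon S).map (c t) ≫ A.b) ⟶ A.P,
          σ.left ≫ A.π.left = (yon S).map (c t) := by
  obtain ⟨R, hR, hs⟩ := A.loc
  have hR' := hR
  obtain ⟨κ, Z, g, rfl⟩ := Presieve.exists_eq_ofArrows R
  obtain ⟨hcov, hmor⟩ := (Scheme.ofArrows_mem_precoverage_iff _).1 hR'
  choose i hi using hcov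
  refine ⟨fun t => Over.mk (g (i t) ≫ A.base.hom), fun t => Over.homMk (g (i t)) rfl,
    ⟨fun t => ⟨(locP_yon_iff H12AlgSp.etLocal_flat _).2 (hmor (i t)).1,
      (locP_yon_iff H12AlgSp.etLocal_lfp _).2 (hmor (i t)).2⟩, fun x => ?_⟩, fun t => ?_⟩
  · obtain ⟨v, rfl⟩ := (AlgSp.Points.schemeEquiv A.base).surjective x
    obtain ⟨w, hw⟩ := hi v
    refine ⟨v, AlgSp.Points.ofScheme _ w, ?_⟩
    rw [H14AlgSt.range_map_yon_map]
    exact congrArg (AlgSp.Points.ofScheme A.base) hw
  · obtain ⟨s, hst⟩ := hs (g (i t)) ⟨i t⟩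
    exact ⟨Over.homMk s (by rw [← Over.w A.π, ← Category.assoc, hst]; rfl), hst⟩

/-- A property local on the base for the fppf topology passes from the group to torsors. -/
theorem torsor_prop (hB : AlgSp.IsAlgSpace B) (hG : AlgSp.IsAlgSpace G.left)
    {P : MorphismProperty (AlgSp.Sp S)} (hb : BaseStable P)
    (hloc : AlgSp.IsLocalOnBase AlgSp.IsFppfCover P) (hP : P G.hom) (A : SpQuotObj K₀ G aX) :
    P A.π.left := by
  obtain ⟨C, c, hc, hσ⟩ := exists_sections A
  choose σ hσ using hσ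
  have hW : ∀ t, AlgSp.IsAlgSpace (G ⊗ Over.mk ((yon S).map (c t) ≫ A.b)).left := fun t =>
    H12AlgSp.isAlgSpace_pullback hB.diag hG (AlgSp.IsAlgSpace.yon_obj _) G.hom
      ((yon S).map (c t) ≫ A.b)
  refine (hloc _ _ (AlgSp.IsAlgSpace.yon_obj _) (fun t => AlgSp.IsAlgSpace.yon_obj _) hc A.π.left
    (isAlgSpace_torsor hB hG A) (fun t => (G ⊗ Over.mk ((yon S).map (c t) ≫ A.b)).left)
    (fun t => (snd G _).left) (fun t => ((G ◁ σ t) ≫ A.act.act).left) hW fun t => ?_).2 fun t => ?_
  · have sq := exists_isPullback_of_sec A (σ t)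
    rwa [hσ t] at sq
  · exact hb hG hB (hW t) (AlgSp.IsAlgSpace.yon_obj _) G.hom _ _
      (fst G (Over.mk ((yon S).map (c t) ≫ A.b))).left (IsPullback.of_hasPullback _ _) hP

/-- A torsor is surjective over its base. -/
theorem torsor_surjective (A : SpQuotObj K₀ G aX) : AlgSp.IsSurjectiveMor A.π.left := by
  obtain ⟨C, c, hc, hσ⟩ := exists_sections A
  intro x
  obtain ⟨t, w, hw⟩ := hc.2 x
  obtain ⟨σ, hσ⟩ := hσ t
  refine ⟨AlgSp.Points.map σ.left w, ?_⟩
  rw [← AlgSp.Points.map_comp, hσ]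
  exact hw

lemma prop_comp_eqToHom {P : MorphismProperty (AlgSp.Sp S)} {Q : AlgSp.Sp S} {T V : Over S}
    (f : Q ⟶ (yon S).obj T) (h : T = V) (hP : P f) : P (f ≫ (yon S).map (eqToHom h)) := by
  subst h
  rw [eqToHom_refl, CategoryTheory.Functor.map_id, Category.comp_id]
  exact hP

/-- The canonical functor is representable, with every property that all torsors have. -/
theorem repWith_spQuotMap (hB : AlgSp.IsAlgSpace B) (hG : AlgSp.IsAlgSpace G.left)
    {P : MorphismProperty (AlgSp.Sp S)} (hP : ∀ A : SpQuotObj K₀ G aX, P A.π.left) :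
    RepByAlgSpWith P (spQuotMap K₀ G aX) := fun _ y =>
  ⟨⟨(top y).P.left, isAlgSpace_torsor hB hG (top y)⟩, ptFun y, ptFun_isEquivOver y, by
    rw [spMapOfOver_ptFun]
    exact prop_comp_eqToHom _ _ (hP (top y))⟩

theorem repWith_spQuotMap_smooth (hB : AlgSp.IsAlgSpace B) (hG : AlgSp.IsAlgSpace G.left)
    (hs : AlgSp.LocP @Smooth G.hom) :
    RepByAlgSpWith (AlgSp.LocP @Smooth) (spQuotMap K₀ G aX) ∧
      RepByAlgSpWith AlgSp.IsSurjectiveMor (spQuotMap K₀ G aX) :=
  ⟨repWith_spQuotMap hB hG (torsor_prop hB hG (baseStable_locP H12AlgSp.etLocal_smooth)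
      (localFppf_of_fpqc (S10542.result S)) hs),
    repWith_spQuotMap hB hG torsor_surjective⟩

end Groth.Agent.H14SpQuot
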